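/-
Cores of groups: `pCore`, `pPrimeCore`, `piCore` (helper3).

Main results (namespace `Cfsg.Agent.Cores`):
* normalizer_le_normalizer_map: N(H) normalizes every characteristic subgroup of H
* pCore: normal, characteristic, isPGroup_pCore, le_pCore, pCore_le_sylow, map lemmas,
  pCore_quotient_self, pCore_map_subtype (normal subgroup), pCore_map_mulEquiv
* piCore: same, card_piCore (π-number), piCore_quotient_self, ...
* pPrimeCore: pPrimeCore_eq_piCore and the same API
-/
import Cfsg.Agent.EqLemmas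

set_option autoImplicit false
open scoped Pointwise

namespace Cfsg.Agent.Cores

variable {G : Type*} [Group G]

/-! ### General subgroup lemmas -/

theorem card_subgroupOf {H K : Subgroup G} (h : H ≤ K) :
    Nat.card (H.subgroupOf K) = Nat.card H :=
  Nat.card_congr (Subgroup.subgroupOfEquivOfLe h).toEquiv

theorem card_map_subtype (H : Subgroup G) (K : Subgroup H) :
    Nat.card (K.map H.subtype) = Nat.card K :=
  (Nat.card_congr (K.equivMapOfInjective H.subtype H.subtype_injective).toEquiv).symm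

/-- The normalizer of `H` normalizes each characteristic subgroup of `H`. -/
theorem normalizer_le_normalizer_map {H : Subgroup G} (C : Subgroup H) [hC : C.Characteristic] :
    Subgroup.normalizer (H : Set G) ≤ Subgroup.normalizer ((C.map H.subtype : Subgroup G) : Set G) := by
  have key : ∀ g ∈ Subgroup.normalizer (H : Set G), ∀ x ∈ C.map H.subtype,
      g * x * g⁻¹ ∈ C.map H.subtype := by
    rintro g hg _ ⟨x, hx, rfl⟩
    rw [Subgroup.mem_normalizer_iff] at hg
    have h1 : ∀ y : H, g * y * g⁻¹ ∈ H := fun y => (hg y).mp y.2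
    have h2 : ∀ y : H, g⁻¹ * y * g ∈ H := fun y =>
      (hg _).mpr (by simpa [mul_assoc] using y.2)
    let φ : H ≃* H :=
      { toFun := fun y => ⟨g * y * g⁻¹, h1 y⟩
        invFun := fun y => ⟨g⁻¹ * y * g, h2 y⟩
        left_inv := fun y => by ext; simp [mul_assoc]
        right_inv := fun y => by ext; simp [mul_assoc]
        map_mul' := fun y z => by ext; simp [mul_assoc] }
    exact ⟨φ x, Subgroup.characteristic_iff_map_le.mp hC φ ⟨x, hx, rfl⟩, rfl⟩
  intro g hg
  rw [Subgroup.mem_normalizer_iff]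
  refine fun x => ⟨key g hg x, fun hx => ?_⟩
  have := key g⁻¹ (inv_mem hg) _ hx
  simpa [mul_assoc] using this

theorem subgroupOf_normal_of_le_normalizer {H K : Subgroup G}
    (h : K ≤ Subgroup.normalizer (H : Set G)) : (H.subgroupOf K).Normal :=
  ⟨fun x hx g => Subgroup.mem_subgroupOf.mpr (by
    have := (Subgroup.mem_normalizer_iff.mp (h g.2) (x : G)).mp (Subgroup.mem_subgroupOf.mp hx)
    simpa using this)⟩

theorem map_subtype_normal_of_characteristic (N : Subgroup G) [hN : N.Normal] (C : Subgroup N)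
    [C.Characteristic] : (C.map N.subtype).Normal :=
  Subgroup.normalizer_eq_top_iff.mp (top_le_iff.mp
    ((Subgroup.normalizer_eq_top_iff.mpr hN).symm.le.trans (normalizer_le_normalizer_map C)))

/-- `|H N| * |H ∩ N| = |H| * |N|` in divisibility form. -/
theorem card_sup_dvd (H N : Subgroup G) [N.Normal] :
    Nat.card ↥(H ⊔ N) ∣ Nat.card H * Nat.card N := by
  have h1 : Nat.card (N.subgroupOf (H ⊔ N)) * N.relIndex (H ⊔ N) = Nat.card ↥(H ⊔ N) :=
    Subgroup.card_mul_index _
  rw [card_subgroupOf le_sup_right, Subgroup.relIndex_sup_right] at h1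
  rw [← h1, mul_comm (Nat.card H)]
  exact mul_dvd_mul_left _ (Subgroup.relIndex_dvd_card N H)

theorem card_map_mul_ker {H : Type*} [Group H] (f : G →* H) (K : Subgroup G) (hK : f.ker ≤ K) :
    Nat.card (K.map f) * Nat.card f.ker = Nat.card K := by
  have h1 : Nat.card (f.ker.subgroupOf K) * f.ker.relIndex K = Nat.card K :=
    Subgroup.card_mul_index _
  rw [Subgroup.relIndex_ker, card_subgroupOf hK] at h1
  rw [mul_comm]
  exact h1

/-! ### `pCore` -/

variable {p : ℕ}

theorem le_pCore {N : Subgroup G} (hN : N.Normal) (h : IsPGroup p N) : N ≤ Cfsg.pCore p G :=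
  le_sSup ⟨hN, h⟩

instance pCore_normal (p : ℕ) (G : Type*) [Group G] : (Cfsg.pCore p G).Normal :=
  Subgroup.sSup_normal _ fun _ h => h.1

theorem isPGroup_pCore (p : ℕ) (G : Type*) [Group G] : IsPGroup p (Cfsg.pCore p G) :=
  Sylow.sSup_of_normal _ (fun _ h => h.2) (fun _ h => h.1)

theorem le_pCore_iff {N : Subgroup G} [hN : N.Normal] : N ≤ Cfsg.pCore p G ↔ IsPGroup p N :=
  ⟨fun h => (isPGroup_pCore p G).to_le h, le_pCore hN⟩

theorem pCore_eq_bot_iff :
    Cfsg.pCore p G = ⊥ ↔ ∀ N : Subgroup G, N.Normal → IsPGroup p N → N = ⊥ :=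
  ⟨fun h _ hN hp => le_bot_iff.mp (h ▸ le_pCore hN hp), fun h => h _ (pCore_normal p G) (isPGroup_pCore p G)⟩

theorem pCore_le_sylow (P : Sylow p G) : Cfsg.pCore p G ≤ (P : Subgroup G) :=
  (isPGroup_pCore p G).le_sylow_of_normal P

theorem pCore_eq_top_iff : Cfsg.pCore p G = ⊤ ↔ IsPGroup p G :=
  ⟨fun h => (h ▸ isPGroup_pCore p G).of_equiv Subgroup.topEquiv,
    fun h => top_le_iff.mp (le_pCore inferInstance (h.to_subgroup _))⟩

theorem pCore_eq_sylow (P : Sylow p G) [hP : (P : Subgroup G).Normal] :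
    Cfsg.pCore p G = (P : Subgroup G) :=
  le_antisymm (pCore_le_sylow P) (le_pCore hP P.isPGroup')

theorem map_pCore_le {H : Type*} [Group H] (f : G →* H) (hf : Function.Surjective f) (p : ℕ) :
    (Cfsg.pCore p G).map f ≤ Cfsg.pCore p H :=
  le_pCore ((pCore_normal p G).map f hf) ((isPGroup_pCore p G).map f)

theorem pCore_map_mulEquiv {H : Type*} [Group H] (e : G ≃* H) (p : ℕ) :
    (Cfsg.pCore p G).map e.toMonoidHom = Cfsg.pCore p H := by
  refine le_antisymm (map_pCore_le _ e.surjective p) fun x hx => ?_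
  exact ⟨e.symm x, map_pCore_le e.symm.toMonoidHom e.symm.surjective p ⟨x, hx, rfl⟩, by simp⟩

instance pCore_characteristic (p : ℕ) (G : Type*) [Group G] : (Cfsg.pCore p G).Characteristic :=
  Subgroup.characteristic_iff_map_eq.mpr fun e => pCore_map_mulEquiv e p

/-- Normal subgroups: `O_p(N) = O_p(G) ∩ N`. -/
theorem pCore_map_subtype (N : Subgroup G) [N.Normal] (p : ℕ) :
    (Cfsg.pCore p N).map N.subtype = Cfsg.pCore p G ⊓ N := by
  refine le_antisymm (le_inf (le_pCore (map_subtype_normal_of_characteristic N _)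
    ((isPGroup_pCore p N).map _)) (Subgroup.map_subtype_le _)) ?_
  have h : (Cfsg.pCore p G).subgroupOf N ≤ Cfsg.pCore p N :=
    le_pCore inferInstance (isPGroup_pCore p G).comap_subtype
  intro x hx
  exact ⟨⟨x, hx.2⟩, h (Subgroup.mem_subgroupOf.mpr hx.1), rfl⟩

theorem comap_pCore_le {H : Type*} [Group H] (f : G →* H) (hker : IsPGroup p f.ker) :
    (Cfsg.pCore p H).comap f ≤ Cfsg.pCore p G :=
  le_pCore inferInstance ((isPGroup_pCore p H).comap_of_ker_isPGroup f hker)

theorem pCore_map_of_ker {H : Type*} [Group H] (f : G →* H) (hf : Function.Surjective f)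
    (hker : IsPGroup p f.ker) : (Cfsg.pCore p G).map f = Cfsg.pCore p H := by
  refine le_antisymm (map_pCore_le f hf p) ?_
  rw [← Subgroup.map_comap_eq_self_of_surjective hf (Cfsg.pCore p H)]
  exact Subgroup.map_mono (comap_pCore_le f hker)

theorem pCore_quotient_of_isPGroup (N : Subgroup G) [N.Normal] (h : IsPGroup p N) :
    (Cfsg.pCore p G).map (QuotientGroup.mk' N) = Cfsg.pCore p (G ⧸ N) :=
  pCore_map_of_ker _ (QuotientGroup.mk'_surjective N) (by rwa [QuotientGroup.ker_mk'])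

theorem pCore_quotient_self (p : ℕ) (G : Type*) [Group G] :
    Cfsg.pCore p (G ⧸ Cfsg.pCore p G) = ⊥ := by
  rw [← pCore_quotient_of_isPGroup _ (isPGroup_pCore p G), Subgroup.map_eq_bot_iff,
    QuotientGroup.ker_mk']

theorem pCore_commute {q : ℕ} [hp : Fact p.Prime] [hq : Fact q.Prime] (hne : p ≠ q) {x y : G}
    (hx : x ∈ Cfsg.pCore p G) (hy : y ∈ Cfsg.pCore q G) : Commute x y :=
  Subgroup.commute_of_normal_of_disjoint _ _ (pCore_normal p G) (pCore_normal q G)
    (IsPGroup.disjoint_of_ne p q hne _ _ (isPGroup_pCore p G) (isPGroup_pCore q G)) x y hx hy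

/-! ### `piCore` -/

variable {π : Set ℕ}

theorem le_piCore {N : Subgroup G} (hN : N.Normal)
    (h : ∀ q : ℕ, q.Prime → q ∣ Nat.card N → q ∈ π) : N ≤ Cfsg.piCore π G :=
  le_sSup ⟨hN, h⟩

theorem pi_card_sSup [Finite G] (s : Set (Subgroup G)) (hn : ∀ N ∈ s, N.Normal)
    (hπ : ∀ N ∈ s, ∀ q : ℕ, q.Prime → q ∣ Nat.card N → q ∈ π) :
    ∀ q : ℕ, q.Prime → q ∣ Nat.card (sSup s : Subgroup G) → q ∈ π := by
  induction s, Set.toFinite s using Set.Finite.induction_on with
  | empty => intro q hq h; simp [sSup_empty] at h; exact absurd h hq.ne_one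
  | @insert a t _ _ ih =>
    intro q hq h
    have : a.Normal := hn a (Set.mem_insert _ _)
    rw [sSup_insert, sup_comm] at h
    rcases hq.dvd_mul.mp (h.trans (card_sup_dvd _ a)) with h' | h'
    · exact ih (fun N hN => hn N (Set.mem_insert_of_mem _ hN))
        (fun N hN => hπ N (Set.mem_insert_of_mem _ hN)) q hq h'
    · exact hπ a (Set.mem_insert _ _) q hq h'

theorem card_piCore [Finite G] (π : Set ℕ) {q : ℕ} (hq : q.Prime)
    (h : q ∣ Nat.card (Cfsg.piCore π G)) : q ∈ π :=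
  pi_card_sSup _ (fun _ h => h.1) (fun _ h => h.2) q hq h

theorem le_piCore_iff [Finite G] {N : Subgroup G} [hN : N.Normal] :
    N ≤ Cfsg.piCore π G ↔ ∀ q : ℕ, q.Prime → q ∣ Nat.card N → q ∈ π :=
  ⟨fun h _ hq hd => card_piCore π hq (hd.trans (Subgroup.card_dvd_of_le h)), le_piCore hN⟩

theorem map_piCore_le {H : Type*} [Group H] (f : G →* H) (hf : Function.Surjective f) (π : Set ℕ) :
    (Cfsg.piCore π G).map f ≤ Cfsg.piCore π H := by
  rw [Subgroup.map_le_iff_le_comap]
  refine sSup_le fun N hN => Subgroup.map_le_iff_le_comap.mp ?_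
  exact le_piCore (hN.1.map f hf) fun q hq hd => hN.2 q hq (hd.trans (Subgroup.card_map_dvd _ _))

theorem piCore_map_mulEquiv {H : Type*} [Group H] (e : G ≃* H) (π : Set ℕ) :
    (Cfsg.piCore π G).map e.toMonoidHom = Cfsg.piCore π H := by
  refine le_antisymm (map_piCore_le _ e.surjective π) fun x hx => ?_
  exact ⟨e.symm x, map_piCore_le e.symm.toMonoidHom e.symm.surjective π ⟨x, hx, rfl⟩, by simp⟩

instance piCore_characteristic (π : Set ℕ) (G : Type*) [Group G] :
    (Cfsg.piCore π G).Characteristic :=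
  Subgroup.characteristic_iff_map_eq.mpr fun e => piCore_map_mulEquiv e π

theorem piCore_mono {σ : Set ℕ} (h : π ⊆ σ) : Cfsg.piCore π G ≤ Cfsg.piCore σ G :=
  sSup_le fun _ hN => le_piCore hN.1 fun q hq hd => h (hN.2 q hq hd)

theorem piCore_eq_top (h : ∀ q : ℕ, q.Prime → q ∣ Nat.card G → q ∈ π) :
    Cfsg.piCore π G = ⊤ :=
  top_le_iff.mp (le_piCore inferInstance fun q hq hd => h q hq (by simpa using hd))

theorem piCore_map_subtype [Finite G] (N : Subgroup G) [N.Normal] (π : Set ℕ) :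
    (Cfsg.piCore π N).map N.subtype = Cfsg.piCore π G ⊓ N := by
  refine le_antisymm (le_inf (le_piCore (map_subtype_normal_of_characteristic N _)
    fun q hq hd => card_piCore (G := N) π hq (by rw [card_map_subtype] at hd; exact hd)) (Subgroup.map_subtype_le _)) ?_
  have h : (Cfsg.piCore π G).subgroupOf N ≤ Cfsg.piCore π N := by
    refine le_piCore inferInstance fun q hq hd => card_piCore (G := G) π hq (hd.trans ?_)
    rw [← card_map_subtype, Subgroup.subgroupOf_map_subtype]
    exact Subgroup.card_dvd_of_le inf_le_left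
  intro x hx
  exact ⟨⟨x, hx.2⟩, h (Subgroup.mem_subgroupOf.mpr hx.1), rfl⟩

theorem piCore_map_of_ker [Finite G] {H : Type*} [Group H] (f : G →* H)
    (hf : Function.Surjective f) (hker : ∀ q : ℕ, q.Prime → q ∣ Nat.card f.ker → q ∈ π) :
    (Cfsg.piCore π G).map f = Cfsg.piCore π H := by
  have : Finite H := Finite.of_surjective _ hf
  refine le_antisymm (map_piCore_le f hf π) ?_
  rw [← Subgroup.map_comap_eq_self_of_surjective hf (Cfsg.piCore π H)]
  refine Subgroup.map_mono (le_piCore inferInstance fun q hq hd => ?_)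
  rw [← card_map_mul_ker f _ (Subgroup.ker_le_comap f _),
    Subgroup.map_comap_eq_self_of_surjective hf] at hd
  rcases hq.dvd_mul.mp hd with h | h
  · exact card_piCore π hq h
  · exact hker q hq h

theorem piCore_quotient_of_pi [Finite G] (N : Subgroup G) [N.Normal]
    (h : ∀ q : ℕ, q.Prime → q ∣ Nat.card N → q ∈ π) :
    (Cfsg.piCore π G).map (QuotientGroup.mk' N) = Cfsg.piCore π (G ⧸ N) :=
  piCore_map_of_ker _ (QuotientGroup.mk'_surjective N) (by rwa [QuotientGroup.ker_mk'])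

theorem piCore_quotient_self [Finite G] (π : Set ℕ) :
    Cfsg.piCore π (G ⧸ Cfsg.piCore π G) = ⊥ := by
  rw [← piCore_quotient_of_pi (π := π) (Cfsg.piCore π G) (fun _ hq hd => card_piCore π hq hd),
    Subgroup.map_eq_bot_iff, QuotientGroup.ker_mk']

theorem piCore_eq_bot_iff [Finite G] : Cfsg.piCore π G = ⊥ ↔
    ∀ N : Subgroup G, N.Normal → (∀ q : ℕ, q.Prime → q ∣ Nat.card N → q ∈ π) → N = ⊥ :=
  ⟨fun h _ hN hp => le_bot_iff.mp (h ▸ le_piCore hN hp),
    fun h => h _ inferInstance fun _ hq hd => card_piCore π hq hd⟩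

theorem pCore_eq_piCore [Finite G] [hp : Fact p.Prime] :
    Cfsg.pCore p G = Cfsg.piCore {p} G := by
  refine le_antisymm (le_piCore (pCore_normal p G) fun q hq hd => ?_) (le_pCore inferInstance ?_)
  · obtain ⟨n, hn⟩ := IsPGroup.iff_card.mp (isPGroup_pCore p G)
    rw [hn] at hd
    exact (Nat.prime_dvd_prime_iff_eq hq hp.out).mp (hq.dvd_of_dvd_pow hd)
  · exact IsPGroup.iff_card.mpr ⟨_, Nat.eq_prime_pow_of_unique_prime_dvd Nat.card_pos.ne'
      fun hd hdvd => card_piCore {p} hd hdvd⟩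

/-! ### `pPrimeCore` -/

theorem coprime_iff_primes {n p : ℕ} :
    n.Coprime p ↔ ∀ q : ℕ, q.Prime → q ∣ n → ¬ q ∣ p :=
  ⟨fun h q hq hn hqp => hq.ne_one (Nat.eq_one_of_dvd_coprimes h hn hqp),
    fun h => Nat.coprime_of_dvd' fun q hq h1 h2 => absurd h2 (h q hq h1)⟩

theorem pPrimeCore_eq_piCore (p : ℕ) (G : Type*) [Group G] :
    Cfsg.pPrimeCore p G = Cfsg.piCore {q | ¬ q ∣ p} G := by
  simp only [Cfsg.pPrimeCore, Cfsg.piCore, coprime_iff_primes, Set.mem_ofPred_eq]

theorem pPrimeCore_eq_piCore_ne [hp : Fact p.Prime] :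
    Cfsg.pPrimeCore p G = Cfsg.piCore {q | q ≠ p} G :=
  le_antisymm
    (sSup_le fun _ hN => le_piCore hN.1 fun q hq hd hqp =>
      coprime_iff_primes.mp hN.2 q hq hd (hqp ▸ dvd_rfl))
    (sSup_le fun _ hN => le_sSup ⟨hN.1, coprime_iff_primes.mpr fun q hq hd hqp =>
      hN.2 q hq hd ((Nat.prime_dvd_prime_iff_eq hq hp.out).mp hqp)⟩)

instance pPrimeCore_normal (p : ℕ) (G : Type*) [Group G] : (Cfsg.pPrimeCore p G).Normal :=
  Subgroup.sSup_normal _ fun _ h => h.1

theorem le_pPrimeCore {N : Subgroup G} (hN : N.Normal) (h : (Nat.card N).Coprime p) :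
    N ≤ Cfsg.pPrimeCore p G :=
  le_sSup ⟨hN, h⟩

theorem coprime_card_pPrimeCore [Finite G] (p : ℕ) :
    (Nat.card (Cfsg.pPrimeCore p G)).Coprime p := by
  rw [pPrimeCore_eq_piCore, coprime_iff_primes]
  exact fun q hq hd => card_piCore {q | ¬ q ∣ p} hq hd

theorem not_dvd_card_pPrimeCore [Finite G] [hp : Fact p.Prime] :
    ¬ p ∣ Nat.card (Cfsg.pPrimeCore p G) :=
  hp.out.coprime_iff_not_dvd.mp (coprime_card_pPrimeCore p).symm

theorem le_pPrimeCore_iff [Finite G] {N : Subgroup G} [hN : N.Normal] :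
    N ≤ Cfsg.pPrimeCore p G ↔ (Nat.card N).Coprime p :=
  ⟨fun h => (coprime_card_pPrimeCore p).coprime_dvd_left (Subgroup.card_dvd_of_le h), le_pPrimeCore hN⟩

theorem map_pPrimeCore_le {H : Type*} [Group H] (f : G →* H) (hf : Function.Surjective f) (p : ℕ) :
    (Cfsg.pPrimeCore p G).map f ≤ Cfsg.pPrimeCore p H := by
  simpa only [pPrimeCore_eq_piCore] using map_piCore_le f hf _

theorem pPrimeCore_map_mulEquiv {H : Type*} [Group H] (e : G ≃* H) (p : ℕ) :
    (Cfsg.pPrimeCore p G).map e.toMonoidHom = Cfsg.pPrimeCore p H := by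
  simpa only [pPrimeCore_eq_piCore] using piCore_map_mulEquiv e _

instance pPrimeCore_characteristic (p : ℕ) (G : Type*) [Group G] :
    (Cfsg.pPrimeCore p G).Characteristic :=
  Subgroup.characteristic_iff_map_eq.mpr fun e => pPrimeCore_map_mulEquiv e p

theorem pPrimeCore_map_subtype [Finite G] (N : Subgroup G) [N.Normal] (p : ℕ) :
    (Cfsg.pPrimeCore p N).map N.subtype = Cfsg.pPrimeCore p G ⊓ N := by
  simpa only [pPrimeCore_eq_piCore] using piCore_map_subtype N {q | ¬ q ∣ p}

theorem pPrimeCore_map_of_ker [Finite G] {H : Type*} [Group H] (f : G →* H)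
    (hf : Function.Surjective f) (hker : (Nat.card f.ker).Coprime p) :
    (Cfsg.pPrimeCore p G).map f = Cfsg.pPrimeCore p H := by
  simpa only [pPrimeCore_eq_piCore] using
    piCore_map_of_ker (π := {q | ¬ q ∣ p}) f hf (coprime_iff_primes.mp hker)

theorem pPrimeCore_quotient_of_coprime [Finite G] (N : Subgroup G) [N.Normal]
    (h : (Nat.card N).Coprime p) :
    (Cfsg.pPrimeCore p G).map (QuotientGroup.mk' N) = Cfsg.pPrimeCore p (G ⧸ N) :=
  pPrimeCore_map_of_ker _ (QuotientGroup.mk'_surjective N) (by rwa [QuotientGroup.ker_mk'])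

theorem pPrimeCore_quotient_self [Finite G] (p : ℕ) :
    Cfsg.pPrimeCore p (G ⧸ Cfsg.pPrimeCore p G) = ⊥ := by
  rw [← pPrimeCore_quotient_of_coprime _ (coprime_card_pPrimeCore p), Subgroup.map_eq_bot_iff,
    QuotientGroup.ker_mk']

theorem pPrimeCore_eq_bot_iff [Finite G] : Cfsg.pPrimeCore p G = ⊥ ↔
    ∀ N : Subgroup G, N.Normal → (Nat.card N).Coprime p → N = ⊥ :=
  ⟨fun h _ hN hp => le_bot_iff.mp (h ▸ le_pPrimeCore hN hp),
    fun h => h _ inferInstance (coprime_card_pPrimeCore p)⟩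

theorem disjoint_pCore_pPrimeCore [Finite G] [hp : Fact p.Prime] :
    Disjoint (Cfsg.pCore p G) (Cfsg.pPrimeCore p G) := by
  obtain ⟨n, hn⟩ := IsPGroup.iff_card.mp (isPGroup_pCore p G)
  refine Subgroup.disjoint_of_coprime_natCard ?_
  rw [hn]
  exact (coprime_card_pPrimeCore p).symm.pow_left n

theorem pCore_pPrimeCore_commute [Finite G] [Fact p.Prime] {x y : G}
    (hx : x ∈ Cfsg.pCore p G) (hy : y ∈ Cfsg.pPrimeCore p G) : Commute x y :=
  Subgroup.commute_of_normal_of_disjoint _ _ (pCore_normal p G) inferInstance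
    disjoint_pCore_pPrimeCore x y hx hy

end Cfsg.Agent.Cores
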