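/-
Subnormal subgroups of (mostly finite) groups (helper3).

Main results (namespace `Cfsg.Agent.Cores`):
* minimalNormal_le_normalizer: a minimal normal subgroup normalizes every subnormal subgroup
* isSubnormal_sup, isSubnormal_sSup: joins of subnormal subgroups
* exists_conj_le_normalizer, wielandt_zipper, wielandt_criterion
* subnormal π-subgroups lie in the π-core (piCore_map_le_of_isSubnormal, le_piCore_of_isSubnormal),
  le_pCore_of_isSubnormal
* not_dvd_relIndex_of_isSubnormal, sylow_inf_isSubnormal
* isSubnormal_of_nilpotent, isSubnormal_iff_commutator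
-/
import Cfsg.Agent.Lib.Cores.Basic

set_option autoImplicit false
open scoped Pointwise commutatorElement

namespace Cfsg.Agent.Cores

universe u

variable {G : Type*} [Group G]

/-! ### Conjugation -/

theorem mem_conj_smul {H : Subgroup G} {g x : G} :
    x ∈ MulAut.conj g • H ↔ g⁻¹ * x * g ∈ H := by
  rw [Subgroup.mem_pointwise_smul_iff_inv_smul_mem]
  simp [MulAut.smul_def]

theorem conj_smul_eq_self_iff {H : Subgroup G} {g : G} :
    MulAut.conj g • H = H ↔ g ∈ Subgroup.normalizer (H : Set G) := by
  rw [Subgroup.mem_normalizer_iff, SetLike.ext_iff]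
  refine ⟨fun h x => ?_, fun h x => ?_⟩
  · rw [← h (g * x * g⁻¹), mem_conj_smul]
    simp [mul_assoc]
  · rw [mem_conj_smul, h]
    simp [mul_assoc]

theorem map_conj_smul {G' : Type*} [Group G'] (f : G →* G') (g : G) (H : Subgroup G) :
    (MulAut.conj g • H).map f = MulAut.conj (f g) • H.map f := by
  ext x
  simp only [Subgroup.mem_map, mem_conj_smul]
  constructor
  · rintro ⟨y, hy, rfl⟩; exact ⟨_, hy, by simp⟩
  · rintro ⟨y, hy, h⟩
    exact ⟨g * y * g⁻¹, by simpa [mul_assoc] using hy, by simp [h, mul_assoc]⟩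

theorem comap_conj_smul {G' : Type*} [Group G'] (f : G →* G') (g : G) (H : Subgroup G') :
    (MulAut.conj (f g) • H).comap f = MulAut.conj g • H.comap f := by
  ext x
  simp [mem_conj_smul]

theorem subgroupOf_conj_smul {K : Subgroup G} (g : K) (H : Subgroup G) :
    (MulAut.conj (g : G) • H).subgroupOf K = MulAut.conj g • H.subgroupOf K :=
  comap_conj_smul K.subtype g H

theorem conj_smul_le_of_normal {H N : Subgroup G} [hN : N.Normal] (h : H ≤ N) (g : G) :
    MulAut.conj g • H ≤ N := fun x hx => by
  have := hN.conj_mem _ (h (mem_conj_smul.mp hx)) g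
  simpa [mul_assoc] using this

theorem isSubnormal_conj_smul {H : Subgroup G} (hH : H.IsSubnormal) (g : G) :
    (MulAut.conj g • H).IsSubnormal := hH.smul _

theorem conj_smul_le_iff_eq [Finite G] {H : Subgroup G} {g : G} :
    MulAut.conj g • H ≤ H ↔ MulAut.conj g • H = H := by
  refine ⟨fun h => ?_, fun h => h.le⟩
  exact Subgroup.eq_of_le_of_card_ge h (Nat.card_congr (Subgroup.equivSMul _ H).toEquiv).le

theorem normalizer_inf_le_normalizer_sup (A B : Subgroup G) :
    Subgroup.normalizer (A : Set G) ⊓ Subgroup.normalizer (B : Set G) ≤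
      Subgroup.normalizer ((A ⊔ B : Subgroup G) : Set G) := fun g hg => by
  rw [← conj_smul_eq_self_iff, Subgroup.smul_sup, conj_smul_eq_self_iff.mpr hg.1,
    conj_smul_eq_self_iff.mpr hg.2]

/-- Normalizing is inherited from a subgroup to the ambient group. -/
theorem le_normalizer_of_subgroupOf {L A N : Subgroup G} (hL : L ≤ N) (hA : A ≤ N)
    (h : L.subgroupOf N ≤ Subgroup.normalizer ((A.subgroupOf N : Subgroup N) : Set N)) :
    L ≤ Subgroup.normalizer (A : Set G) := by
  have h1 := (Subgroup.map_mono (f := N.subtype) h).trans (Subgroup.le_normalizer_map _)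
  rwa [Subgroup.map_subgroupOf_eq_of_le hA, Subgroup.map_subgroupOf_eq_of_le hL] at h1

/-! ### Subnormality in subgroups -/

theorem isSubnormal_subgroupOf_comap {G' : Type*} [Group G'] (f : G →* G') {S H : Subgroup G'}
    (h : (S.subgroupOf H).IsSubnormal) : ((S.comap f).subgroupOf (H.comap f)).IsSubnormal := by
  exact h.comap ((f.comp (H.comap f).subtype).codRestrict H fun x => x.2)

theorem isSubnormal_subgroupOf_top {S : Subgroup G} :
    (S.subgroupOf ⊤).IsSubnormal ↔ S.IsSubnormal :=
  ⟨fun h => h.trans le_top Subgroup.IsSubnormal.top, fun h => h.subgroupOf⟩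

/-! ### Minimal normal subgroups -/

/-- Every nontrivial normal subgroup of a finite group contains a minimal normal subgroup. -/
theorem exists_minimal_normal_le [Finite G] (N : Subgroup G) [hN : N.Normal] (h : N ≠ ⊥) :
    ∃ M : Subgroup G, M ≤ N ∧ M.Normal ∧ M ≠ ⊥ ∧
      ∀ K : Subgroup G, K.Normal → K ≤ M → K = ⊥ ∨ K = M := by
  obtain ⟨M, hMN, ⟨hM1, hM2⟩, hmin⟩ :=
    exists_minimal_le_of_wellFoundedLT (fun K : Subgroup G => K.Normal ∧ K ≠ ⊥) N ⟨hN, h⟩
  exact ⟨M, hMN, hM1, hM2, fun K hK hKM => or_iff_not_imp_left.mpr fun hb =>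
    le_antisymm hKM (hmin ⟨hK, hb⟩ hKM)⟩

theorem exists_minimal_normal [Finite G] [Nontrivial G] :
    ∃ M : Subgroup G, M.Normal ∧ M ≠ ⊥ ∧ ∀ K : Subgroup G, K.Normal → K ≤ M → K = ⊥ ∨ K = M := by
  obtain ⟨M, _, h⟩ := exists_minimal_normal_le (⊤ : Subgroup G) top_ne_bot
  exact ⟨M, h⟩

theorem minimalNormal_le_normalizer_aux : ∀ (n : ℕ) (G : Type u) [Group G] [Finite G],
    Nat.card G = n → ∀ M : Subgroup G, M.Normal →
    (∀ K : Subgroup G, K.Normal → K ≤ M → K = ⊥ ∨ K = M) →
    ∀ S : Subgroup G, S.IsSubnormal → M ≤ Subgroup.normalizer (S : Set G) := by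
  intro n
  induction n using Nat.strong_induction_on with
  | _ n ih =>
    intro G _ _ hn M hM hmin S hS
    by_cases hStop : S = ⊤
    · subst hStop; exact le_top.trans Subgroup.le_normalizer
    obtain ⟨N, hN, hSN, hNt⟩ := hS.exists_normal_and_le_and_lt_top_of_ne hStop
    rcases hmin (M ⊓ N) inferInstance inf_le_left with h | h
    · intro x hx
      apply Subgroup.centralizer_le_normalizer
      intro s hs
      exact (Subgroup.commute_of_normal_of_disjoint _ _ hM hN (disjoint_iff.mpr h) x s hx
        (hSN hs)).eq.symm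
    have hMN : M ≤ N := inf_eq_left.mp h
    by_cases hMb : M = ⊥
    · simp [hMb]
    obtain ⟨L, hLM, ⟨hL1, hL2⟩, hLmin⟩ := exists_minimal_le_of_wellFoundedLT
      (fun L : Subgroup G => L ≠ ⊥ ∧ N ≤ Subgroup.normalizer (L : Set G)) M
      ⟨hMb, (Subgroup.normalizer_eq_top_iff.mpr hM).symm ▸ le_top⟩
    have hcard : Nat.card N < n := hn ▸ (by
      refine lt_of_le_of_ne (Subgroup.card_le_card_group N) fun hc => hNt.ne ?_
      exact Subgroup.eq_top_of_card_eq N hc)
    have key : ∀ T : Subgroup G, T ≤ N → T.IsSubnormal → L ≤ Subgroup.normalizer (T : Set G) := by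
      intro T hTN hT
      refine le_normalizer_of_subgroupOf (hLM.trans hMN) hTN ?_
      refine ih _ hcard N rfl (L.subgroupOf N) (subgroupOf_normal_of_le_normalizer hL2) ?_ _
        hT.subgroupOf
      intro K hK hKL
      refine or_iff_not_imp_left.mpr fun hKb => ?_
      have hKL' : K.map N.subtype ≤ L :=
        (Subgroup.map_mono hKL).trans (Subgroup.subgroupOf_map_subtype L N ▸ inf_le_left)
      have hne : K.map N.subtype ≠ ⊥ := by
        rwa [Ne, Subgroup.map_eq_bot_iff_of_injective _ N.subtype_injective]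
      have hnor : N ≤ Subgroup.normalizer ((K.map N.subtype : Subgroup G) : Set G) := by
        have h1 := Subgroup.le_normalizer_map (H := K) N.subtype
        rw [Subgroup.normalizer_eq_top_iff.mpr hK, ← MonoidHom.range_eq_map,
          Subgroup.range_subtype] at h1
        exact h1
      have heq : K.map N.subtype = L := le_antisymm hKL' (hLmin ⟨hne, hnor⟩ hKL')
      rw [← heq]
      exact (Subgroup.comap_map_eq_self_of_injective N.subtype_injective K).symm
    have hcl : Subgroup.normalClosure (L : Set G) ≤ Subgroup.normalizer (S : Set G) := by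
      refine (Subgroup.closure_le _).mpr ?_
      intro x hx
      obtain ⟨l, hl, g, rfl⟩ := by
        simpa only [Group.mem_conjugatesOfSet_iff, isConj_iff] using hx
      have h1 := key (MulAut.conj g⁻¹ • S) (conj_smul_le_of_normal hSN _)
        (isSubnormal_conj_smul hS _) hl
      rw [← conj_smul_eq_self_iff, ← mul_smul, ← map_mul] at h1
      rw [SetLike.mem_coe, ← conj_smul_eq_self_iff, map_mul, mul_smul]
      have h2 := congrArg (MulAut.conj g • ·) h1
      simp only [← mul_smul, ← map_mul, mul_inv_cancel, map_one, one_smul] at h2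
      rw [← mul_smul, ← map_mul]
      simpa [mul_assoc] using h2
    rcases hmin _ Subgroup.normalClosure_normal (Subgroup.normalClosure_le_normal hLM) with h' | h'
    · exact absurd (le_bot_iff.mp (Subgroup.le_normalClosure.trans h'.le)) hL1
    · exact h' ▸ hcl

/-- A minimal normal subgroup normalizes every subnormal subgroup. -/
theorem minimalNormal_le_normalizer [Finite G] (M : Subgroup G) [hM : M.Normal]
    (hmin : ∀ K : Subgroup G, K.Normal → K ≤ M → K = ⊥ ∨ K = M) {S : Subgroup G}
    (hS : S.IsSubnormal) : M ≤ Subgroup.normalizer (S : Set G) :=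
  minimalNormal_le_normalizer_aux _ G rfl M hM hmin S hS

theorem isSubnormal_sup_aux : ∀ (n : ℕ) (G : Type u) [Group G] [Finite G],
    Nat.card G = n → ∀ A B : Subgroup G, A.IsSubnormal → B.IsSubnormal → (A ⊔ B).IsSubnormal := by
  intro n
  induction n using Nat.strong_induction_on with
  | _ n ih =>
    intro G _ _ hn A B hA hB
    rcases subsingleton_or_nontrivial G with h | h
    · exact Subgroup.IsSubnormal.of_subsingleton
    obtain ⟨M, hM, hMb, hmin⟩ := exists_minimal_normal (G := G)
    have hcard : Nat.card (G ⧸ M) < n := by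
      rw [← hn, Subgroup.card_eq_card_quotient_mul_card_subgroup M]
      exact lt_mul_of_one_lt_right Nat.card_pos (Subgroup.one_lt_card_iff_ne_bot M |>.mpr hMb)
    have hsn := (ih _ hcard (G ⧸ M) rfl _ _ (hA.quotient (K := M)) (hB.quotient (K := M))).comap
      (QuotientGroup.mk' M)
    rw [← Subgroup.map_sup, Subgroup.comap_map_eq, QuotientGroup.ker_mk'] at hsn
    refine Subgroup.IsSubnormal.step _ _ le_sup_left hsn (subgroupOf_normal_of_le_normalizer
      (sup_le Subgroup.le_normalizer ?_))
    exact (le_inf (minimalNormal_le_normalizer M hmin hA)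
      (minimalNormal_le_normalizer M hmin hB)).trans (normalizer_inf_le_normalizer_sup A B)

/-- The join of two subnormal subgroups of a finite group is subnormal. -/
theorem isSubnormal_sup [Finite G] {A B : Subgroup G} (hA : A.IsSubnormal) (hB : B.IsSubnormal) :
    (A ⊔ B).IsSubnormal :=
  isSubnormal_sup_aux _ G rfl A B hA hB

theorem isSubnormal_sSup [Finite G] (s : Set (Subgroup G)) (hs : ∀ H ∈ s, H.IsSubnormal) :
    (sSup s).IsSubnormal := by
  induction s, Set.toFinite s using Set.Finite.induction_on with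
  | empty => simp
  | @insert a t _ _ ih =>
    rw [sSup_insert]
    exact isSubnormal_sup (hs a (Set.mem_insert _ _))
      (ih fun H hH => hs H (Set.mem_insert_of_mem _ hH))

/-! ### Conjugates inside the normalizer -/

/-- A subnormal subgroup that is not normal is normalized by one of its other conjugates. -/
theorem exists_conj_le_normalizer {J : Subgroup G} (hJ : J.IsSubnormal) (hn : ¬ J.Normal) :
    ∃ g : G, MulAut.conj g • J ≠ J ∧ MulAut.conj g • J ≤ Subgroup.normalizer (J : Set G) := by
  suffices h : ∀ K : Subgroup G, K.IsSubnormal → ∀ J : Subgroup G, J ≤ K →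
      K ≤ Subgroup.normalizer (J : Set G) → ¬ J.Normal →
      ∃ g : G, MulAut.conj g • J ≠ J ∧ MulAut.conj g • J ≤ Subgroup.normalizer (J : Set G) from
    h J hJ J le_rfl Subgroup.le_normalizer hn
  intro K hK
  induction hK with
  | top => exact fun J _ h hn => absurd (Subgroup.normalizer_eq_top_iff.mp (top_le_iff.mp h)) hn
  | step K L hKL _ hN ih =>
    intro J hJK hKJ hn
    by_cases hL : L ≤ Subgroup.normalizer (J : Set G)
    · exact ih J (hJK.trans hKL) hL hn
    obtain ⟨g, hgL, hg⟩ := Set.not_subset.mp hL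
    refine ⟨g, fun h => hg (conj_smul_eq_self_iff.mp h), ?_⟩
    calc MulAut.conj g • J ≤ MulAut.conj g • K := Subgroup.pointwise_smul_le_pointwise_smul_iff.mpr hJK
      _ = K := conj_smul_eq_self_iff.mpr
          ((Subgroup.normal_subgroupOf_iff_le_normalizer hKL).mp hN hgL)
      _ ≤ _ := hKJ

/-- Relative version of `exists_conj_le_normalizer`. -/
theorem exists_conj_le_normalizer_of_le {J K : Subgroup G} (hJK : J ≤ K)
    (hJ : (J.subgroupOf K).IsSubnormal) (hn : ¬ K ≤ Subgroup.normalizer (J : Set G)) :
    ∃ g ∈ K, MulAut.conj g • J ≠ J ∧ MulAut.conj g • J ≤ Subgroup.normalizer (J : Set G) ∧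
      MulAut.conj g • J ≤ K := by
  obtain ⟨g, hg, hle⟩ := exists_conj_le_normalizer hJ
    fun h => hn ((Subgroup.normal_subgroupOf_iff_le_normalizer hJK).mp h)
  have he : (MulAut.conj g • J.subgroupOf K).map K.subtype = MulAut.conj (g : G) • J := by
    rw [map_conj_smul, Subgroup.map_subgroupOf_eq_of_le hJK]; rfl
  refine ⟨g, g.2, fun h => hg ?_, ?_, he ▸ Subgroup.map_subtype_le _⟩
  · apply Subgroup.map_injective K.subtype_injective
    rw [he, h, Subgroup.map_subgroupOf_eq_of_le hJK]
  · have h1 := (Subgroup.map_mono (f := K.subtype) hle).trans (Subgroup.le_normalizer_map _)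
    rwa [he, Subgroup.map_subgroupOf_eq_of_le hJK] at h1

/-- Wielandt's zipper lemma. -/
theorem wielandt_zipper [Finite G] (S : Subgroup G)
    (hS : ∀ H : Subgroup G, S ≤ H → H ≠ ⊤ → (S.subgroupOf H).IsSubnormal)
    (hn : ¬ S.IsSubnormal) :
    ∃ M : Subgroup G, IsCoatom M ∧ S ≤ M ∧ ∀ K : Subgroup G, IsCoatom K → S ≤ K → K = M := by
  induction S using WellFoundedGT.induction with
  | ind S ih =>
    have hNt : Subgroup.normalizer (S : Set G) ≠ ⊤ := fun h =>
      hn (Subgroup.normalizer_eq_top_iff.mp h).isSubnormal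
    obtain ⟨M, hM, hNM⟩ := (eq_top_or_exists_le_coatom _).resolve_left hNt
    refine ⟨M, hM, Subgroup.le_normalizer.trans hNM, fun K hK hSK => ?_⟩
    by_cases hKN : K ≤ Subgroup.normalizer (S : Set G)
    · exact ((hK.le_iff.mp (hKN.trans hNM)).resolve_left hM.1).symm
    obtain ⟨g, hgK, hgS, hgN, hgle⟩ := exists_conj_le_normalizer_of_le hSK (hS K hSK hK.1) hKN
    have hlt : S < S ⊔ MulAut.conj g • S := lt_of_le_of_ne le_sup_left fun h =>
      hgS (conj_smul_le_iff_eq.mp (le_sup_right.trans h.symm.le))
    have hTK : S ⊔ MulAut.conj g • S ≤ K := sup_le hSK hgle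
    have hTM : S ⊔ MulAut.conj g • S ≤ M :=
      (sup_le Subgroup.le_normalizer hgN).trans hNM
    have hT1 : ∀ H : Subgroup G, S ⊔ MulAut.conj g • S ≤ H → H ≠ ⊤ →
        ((S ⊔ MulAut.conj g • S).subgroupOf H).IsSubnormal := by
      intro H hH hHt
      rw [Subgroup.subgroupOf_sup (le_sup_left.trans hH) (le_sup_right.trans hH)]
      refine isSubnormal_sup (hS H (le_sup_left.trans hH) hHt) ?_
      set H' := H.comap (MulAut.conj g).toMonoidHom with hH'
      have h1 : S ≤ H' := fun x hx => le_sup_right.trans hH (mem_conj_smul.mpr (by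
        simpa [mul_assoc] using hx))
      have h2 : H' ≠ ⊤ := fun h => hHt ((Subgroup.eq_top_iff' _).mpr fun x => by
        have hx : g⁻¹ * x * g ∈ H' := h ▸ Subgroup.mem_top _
        simpa [hH', mul_assoc] using hx)
      have h3 := isSubnormal_subgroupOf_comap (MulAut.conj g).symm.toMonoidHom (hS H' h1 h2)
      have e1 : H'.comap (MulAut.conj g).symm.toMonoidHom = H := by
        ext x; simp [hH', mul_assoc]
      have e2 : S.comap (MulAut.conj g).symm.toMonoidHom = MulAut.conj g • S := by
        ext x; simp [mem_conj_smul]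
      rwa [e1, e2] at h3
    have hT2 : ¬ (S ⊔ MulAut.conj g • S).IsSubnormal := fun h =>
      hn ((hS _ le_sup_left (fun ht => hK.1 (top_le_iff.mp (ht ▸ hTK)))).trans le_sup_left h)
    obtain ⟨M', _, _, huniq⟩ := ih _ hlt hT1 hT2
    rw [huniq K hK hTK, huniq M hM hTM]

theorem wielandt_criterion_aux : ∀ (n : ℕ) (G : Type u) [Group G] [Finite G],
    Nat.card G = n → ∀ A : Subgroup G,
    (∀ g : G, (A.subgroupOf (A ⊔ MulAut.conj g • A)).IsSubnormal) → A.IsSubnormal := by
  intro n
  induction n using Nat.strong_induction_on with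
  | _ n ih =>
    intro G _ _ hn A h
    by_contra hA
    have hsub : ∀ H : Subgroup G, A ≤ H → H ≠ ⊤ → (A.subgroupOf H).IsSubnormal := by
      intro H hAH hH
      refine ih _ (hn ▸ lt_of_le_of_ne (Subgroup.card_le_card_group H)
        fun hc => hH (Subgroup.eq_top_of_card_eq H hc)) H rfl _ fun x => ?_
      have h1 := isSubnormal_subgroupOf_comap H.subtype (h x)
      have e : (A ⊔ MulAut.conj (x : G) • A).comap H.subtype
          = A.subgroupOf H ⊔ MulAut.conj x • A.subgroupOf H := by
        have hx : MulAut.conj (x : G) • A ≤ H := fun y hy => by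
          have := H.mul_mem (H.mul_mem x.2 (hAH (mem_conj_smul.mp hy))) (H.inv_mem x.2)
          simpa [mul_assoc] using this
        rw [← subgroupOf_conj_smul, ← Subgroup.subgroupOf_sup hAH hx]
        rfl
      rw [e] at h1
      exact h1
    obtain ⟨M, hM, hAM, huniq⟩ := wielandt_zipper A hsub hA
    have hcl : Subgroup.normalClosure (A : Set G) ≤ M := by
      refine (Subgroup.closure_le _).mpr fun x hx => ?_
      obtain ⟨a, ha, g, rfl⟩ := by
        simpa only [Group.mem_conjugatesOfSet_iff, isConj_iff] using hx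
      have hne : A ⊔ MulAut.conj g • A ≠ ⊤ := fun ht =>
        hA (isSubnormal_subgroupOf_top.mp (ht ▸ h g))
      obtain ⟨K, hK, hle⟩ := (eq_top_or_exists_le_coatom _).resolve_left hne
      rw [← huniq K hK (le_sup_left.trans hle)]
      exact hle (Subgroup.mem_sup_right (mem_conj_smul.mpr (by simpa [mul_assoc] using ha)))
    have hAc : A ≤ Subgroup.normalClosure (A : Set G) := Subgroup.le_normalClosure
    exact hA ((hsub _ hAc fun ht => hM.1 (top_le_iff.mp (ht ▸ hcl))).trans hAc
      Subgroup.normalClosure_normal.isSubnormal)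

/-- Wielandt's criterion: `A` is subnormal if it is subnormal in every `A ⊔ A^g`. -/
theorem wielandt_criterion [Finite G] (A : Subgroup G)
    (h : ∀ g : G, (A.subgroupOf (A ⊔ MulAut.conj g • A)).IsSubnormal) : A.IsSubnormal :=
  wielandt_criterion_aux _ G rfl A h

/-! ### Cores and subnormal subgroups -/

theorem pCore_map_le_of_isSubnormal {K : Subgroup G} (hK : K.IsSubnormal) (p : ℕ) :
    (Cfsg.pCore p K).map K.subtype ≤ Cfsg.pCore p G := by
  induction hK with
  | top => exact le_pCore (map_subtype_normal_of_characteristic ⊤ _) ((isPGroup_pCore p _).map _)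
  | step H K hle _ hN ih =>
    have h1 : (Cfsg.pCore p H).map H.subtype ≤ K := (Subgroup.map_subtype_le _).trans hle
    have h2 : ((Cfsg.pCore p H).map H.subtype).subgroupOf K ≤ Cfsg.pCore p K :=
      le_pCore (subgroupOf_normal_of_le_normalizer
        (((Subgroup.normal_subgroupOf_iff_le_normalizer hle).mp hN).trans
          (normalizer_le_normalizer_map _)))
        ((isPGroup_pCore p H).map _).comap_subtype
    rw [← Subgroup.map_subgroupOf_eq_of_le h1]
    exact (Subgroup.map_mono h2).trans ih

theorem le_pCore_of_isSubnormal {p : ℕ} {K : Subgroup G} (hK : K.IsSubnormal) (h : IsPGroup p K) :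
    K ≤ Cfsg.pCore p G := by
  have := pCore_map_le_of_isSubnormal hK p
  rwa [pCore_eq_top_iff.mpr h, ← MonoidHom.range_eq_map, Subgroup.range_subtype] at this

theorem piCore_map_le_of_isSubnormal [Finite G] {K : Subgroup G} (hK : K.IsSubnormal)
    (π : Set ℕ) : (Cfsg.piCore π K).map K.subtype ≤ Cfsg.piCore π G := by
  induction hK with
  | top => exact le_of_eq_of_le (piCore_map_subtype ⊤ π) inf_le_left
  | step H K hle _ hN ih =>
    have h1 : (Cfsg.piCore π H).map H.subtype ≤ K := (Subgroup.map_subtype_le _).trans hle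
    have h2 : ((Cfsg.piCore π H).map H.subtype).subgroupOf K ≤ Cfsg.piCore π K :=
      le_piCore (subgroupOf_normal_of_le_normalizer
        (((Subgroup.normal_subgroupOf_iff_le_normalizer hle).mp hN).trans
          (normalizer_le_normalizer_map _))) fun q hq hd => by
        rw [card_subgroupOf h1, card_map_subtype] at hd
        exact card_piCore (G := H) π hq hd
    rw [← Subgroup.map_subgroupOf_eq_of_le h1]
    exact (Subgroup.map_mono h2).trans ih

theorem le_piCore_of_isSubnormal [Finite G] {π : Set ℕ} {K : Subgroup G} (hK : K.IsSubnormal)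
    (h : ∀ q : ℕ, q.Prime → q ∣ Nat.card K → q ∈ π) : K ≤ Cfsg.piCore π G := by
  have := piCore_map_le_of_isSubnormal hK π
  rwa [piCore_eq_top h, ← MonoidHom.range_eq_map, Subgroup.range_subtype] at this

theorem le_pPrimeCore_of_isSubnormal [Finite G] {p : ℕ} {K : Subgroup G} (hK : K.IsSubnormal)
    (h : (Nat.card K).Coprime p) : K ≤ Cfsg.pPrimeCore p G := by
  rw [pPrimeCore_eq_piCore]
  exact le_piCore_of_isSubnormal hK (coprime_iff_primes.mp h)

/-! ### Sylow subgroups -/

theorem relIndex_dvd_index_of_normal_right [Finite G] (P H : Subgroup G) [H.Normal] :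
    P.relIndex H ∣ P.index := by
  have e : P.relIndex (P ⊔ H) = P.relIndex H := by
    have h1 := P.relIndex_mul_relIndex (P ⊔ H) ⊤ le_sup_left le_top
    have c1 : Nat.card (P.subgroupOf (P ⊔ H)) * P.relIndex (P ⊔ H) = Nat.card ↥(P ⊔ H) :=
      Subgroup.card_mul_index _
    have c2 : Nat.card (H.subgroupOf (P ⊔ H)) * H.relIndex (P ⊔ H) = Nat.card ↥(P ⊔ H) :=
      Subgroup.card_mul_index _
    rw [card_subgroupOf le_sup_left] at c1
    rw [card_subgroupOf le_sup_right, Subgroup.relIndex_sup_right] at c2
    have c3 : Nat.card (H.subgroupOf P) * H.relIndex P = Nat.card P := Subgroup.card_mul_index _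
    have c4 : Nat.card (P.subgroupOf H) * P.relIndex H = Nat.card H := Subgroup.card_mul_index _
    rw [← card_map_subtype, Subgroup.subgroupOf_map_subtype] at c3 c4
    rw [inf_comm] at c4
    refine Nat.eq_of_mul_eq_mul_left (Nat.card_pos : 0 < Nat.card P) ?_
    rw [c1, ← c2, ← c3, ← c4]
    ring
  exact e ▸ Subgroup.relIndex_dvd_index_of_le le_sup_left

theorem not_dvd_relIndex_of_isSubnormal [Finite G] {p : ℕ} [Fact p.Prime] (S : Sylow p G)
    {H : Subgroup G} (hH : H.IsSubnormal) : ¬ p ∣ (S : Subgroup G).relIndex H := by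
  induction hH with
  | top => simpa using S.not_dvd_index
  | step H K hle _ hN ih =>
    intro hd
    apply ih
    rw [← Subgroup.relIndex_subgroupOf hle] at hd
    exact hd.trans (relIndex_dvd_index_of_normal_right ((S : Subgroup G).subgroupOf K)
      (H.subgroupOf K))

theorem sylow_inf_isSubnormal [Finite G] {p : ℕ} [hp : Fact p.Prime] (S : Sylow p G)
    {H : Subgroup G} (hH : H.IsSubnormal) :
    ∃ Q : Sylow p H, (Q : Subgroup H) = (S : Subgroup G).subgroupOf H :=
  ⟨S.isPGroup'.comap_subtype.toSylow (not_dvd_relIndex_of_isSubnormal S hH), rfl⟩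

/-! ### Nilpotent groups and commutator criterion -/

theorem isSubnormal_of_nilpotent [Finite G] [Group.IsNilpotent G] (H : Subgroup G) :
    H.IsSubnormal := by
  induction H using WellFoundedGT.induction with
  | ind H ih =>
    rcases eq_top_or_lt_top H with rfl | h
    · exact Subgroup.IsSubnormal.top
    · exact Subgroup.IsSubnormal.step _ _ Subgroup.le_normalizer
        (ih _ (Group.normalizerCondition_of_isNilpotent H h)) (subgroupOf_normal_of_le_normalizer le_rfl)

theorem commutator_normalizer_left (A B : Subgroup G) :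
    A ≤ Subgroup.normalizer ((⁅A, B⁆ : Subgroup G) : Set G) := by
  have key : ∀ a ∈ A, ∀ x ∈ ⁅A, B⁆, a * x * a⁻¹ ∈ ⁅A, B⁆ := by
    intro a ha x hx
    have : ⁅A, B⁆ ≤ ⁅A, B⁆.comap (MulAut.conj a).toMonoidHom := by
      refine Subgroup.commutator_le.mpr fun a' ha' b hb => ?_
      have := ⁅A, B⁆.mul_mem (Subgroup.commutator_mem_commutator (A.mul_mem ha ha') hb)
        (⁅A, B⁆.inv_mem (Subgroup.commutator_mem_commutator ha hb))
      simpa [commutatorElement_def, mul_assoc] using this
    simpa using this hx
  intro a ha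
  rw [Subgroup.mem_normalizer_iff]
  refine fun x => ⟨key a ha x, fun hx => ?_⟩
  have := key a⁻¹ (A.inv_mem ha) _ hx
  simpa [mul_assoc] using this

theorem commutator_normalizer_right (A B : Subgroup G) :
    B ≤ Subgroup.normalizer ((⁅A, B⁆ : Subgroup G) : Set G) :=
  Subgroup.commutator_comm A B ▸ commutator_normalizer_left B A

/-- `H` is subnormal iff some iterated commutator `[G, H, ..., H]` lies in `H`. -/
theorem isSubnormal_iff_commutator (H : Subgroup G) :
    H.IsSubnormal ↔ ∃ m : ℕ, (fun K : Subgroup G => ⁅K, H⁆)^[m] ⊤ ≤ H := by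
  set f := fun K : Subgroup G => ⁅K, H⁆ with hf
  constructor
  · intro hH
    suffices h : ∀ K : Subgroup G, K.IsSubnormal → H ≤ K → ∃ m : ℕ, f^[m] ⊤ ≤ K from
      h H hH le_rfl
    intro K hK
    induction hK with
    | top => exact fun _ => ⟨0, le_top⟩
    | step K L hle _ hN ih =>
      intro hHK
      obtain ⟨m, hm⟩ := ih (hHK.trans hle)
      refine ⟨m + 1, ?_⟩
      rw [Function.iterate_succ_apply']
      refine Subgroup.commutator_le.mpr fun a ha b hb => ?_
      have h1 := (Subgroup.mem_normalizer_iff.mp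
        ((Subgroup.normal_subgroupOf_iff_le_normalizer hle).mp hN (hm ha)) b).mp (hHK hb)
      simpa [commutatorElement_def] using K.mul_mem h1 (K.inv_mem (hHK hb))
  · rintro ⟨m, hm⟩
    have hdec : ∀ i, f^[i + 1] ⊤ ≤ f^[i] ⊤ := by
      intro i
      induction i with
      | zero => exact le_top
      | succ i ih =>
        rw [Function.iterate_succ_apply' f (i + 1), Function.iterate_succ_apply' f i] at *
        exact Subgroup.commutator_mono ih le_rfl
    have hnor : ∀ i, H ≤ Subgroup.normalizer ((f^[i] ⊤ : Subgroup G) : Set G) := by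
      intro i
      rcases i with _ | i
      · exact le_top.trans Subgroup.le_normalizer
      · rw [Function.iterate_succ_apply']; exact commutator_normalizer_right _ H
    have hs : ∀ i, (H ⊔ f^[i] ⊤).IsSubnormal := by
      intro i
      induction i with
      | zero => simp
      | succ i ih =>
        refine Subgroup.IsSubnormal.step _ _ (sup_le_sup_left (hdec i) H) ih ?_
        refine subgroupOf_normal_of_le_normalizer (sup_le ?_ ?_)
        · exact (le_inf Subgroup.le_normalizer (hnor (i + 1))).trans
            (normalizer_inf_le_normalizer_sup _ _)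
        · intro k hk
          have key : ∀ k ∈ f^[i] ⊤, H ⊔ f^[i + 1] ⊤ ≤
              (H ⊔ f^[i + 1] ⊤).comap (MulAut.conj k).toMonoidHom := by
            intro k hk
            have hc : ∀ h ∈ H, ⁅k, h⁆ ∈ f^[i + 1] ⊤ := fun h hh => by
              rw [Function.iterate_succ_apply']
              exact Subgroup.commutator_mem_commutator hk hh
            refine sup_le (fun h hh => ?_) (fun x hx => ?_)
            · have := (H ⊔ f^[i + 1] ⊤).mul_mem (Subgroup.mem_sup_right (hc h hh))
                (Subgroup.mem_sup_left hh)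
              simpa [commutatorElement_def, mul_assoc] using this
            · refine Subgroup.mem_sup_right ?_
              rw [Function.iterate_succ_apply'] at hx ⊢
              exact (Subgroup.mem_normalizer_iff.mp (commutator_normalizer_left _ H hk) x).mp hx
          rw [Subgroup.mem_normalizer_iff]
          refine fun x => ⟨fun hx => key k hk hx, fun hx => ?_⟩
          have := key k⁻¹ (inv_mem hk) hx
          simpa [mul_assoc] using this
    simpa [sup_eq_left.mpr hm] using hs m

end Cfsg.Agent.Cores
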