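/-
The Fitting subgroup (helper3).

Main results (namespace `Cfsg.Agent.Cores`):
* fittingSubgroup_normal / _characteristic, le_fittingSubgroup
* fittingSubgroup_eq_iSup_pCore, fittingSubgroup_isNilpotent, nilpotent_sup
* fittingSubgroup_map_le_of_isSubnormal, le_fittingSubgroup_of_isSubnormal,
  fittingSubgroup_map_subtype (F(N) = F(G) ∩ N)
* exists_mem_center_of_normal (nilpotent: normal subgroups meet the centre)
* fitting_le_centralizer_minimalNormal
-/
import Cfsg.Agent.Lib.Cores.Subnormal

set_option autoImplicit false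

namespace Cfsg.Agent.Cores

variable {G : Type*} [Group G]

theorem isNilpotent_of_le {H K : Subgroup G} (h : H ≤ K) (hK : Group.IsNilpotent K) :
    Group.IsNilpotent H :=
  have := hK
  Group.nilpotent_of_mulEquiv (Subgroup.subgroupOfEquivOfLe h)

theorem isNilpotent_map {G' : Type*} [Group G'] (f : G →* G') {H : Subgroup G}
    (h : Group.IsNilpotent H) : Group.IsNilpotent (H.map f) :=
  have := h
  Group.nilpotent_of_surjective (f.subgroupMap H) (f.subgroupMap_surjective H)

theorem isNilpotent_of_isMulCommutative (H : Subgroup G) [IsMulCommutative H] :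
    Group.IsNilpotent H := by
  open scoped IsMulCommutative in infer_instance

theorem le_fittingSubgroup {N : Subgroup G} (hN : N.Normal) (h : Group.IsNilpotent N) :
    N ≤ Cfsg.fittingSubgroup G :=
  le_sSup ⟨hN, h⟩

theorem le_fittingSubgroup_of_isMulCommutative (N : Subgroup G) [hN : N.Normal]
    [IsMulCommutative N] : N ≤ Cfsg.fittingSubgroup G :=
  le_fittingSubgroup hN (isNilpotent_of_isMulCommutative N)

theorem center_le_fittingSubgroup : Subgroup.center G ≤ Cfsg.fittingSubgroup G :=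
  le_fittingSubgroup_of_isMulCommutative _

instance fittingSubgroup_normal (G : Type*) [Group G] : (Cfsg.fittingSubgroup G).Normal :=
  Subgroup.sSup_normal _ fun _ h => h.1

theorem map_fittingSubgroup_le {G' : Type*} [Group G'] (f : G →* G') (hf : Function.Surjective f) :
    (Cfsg.fittingSubgroup G).map f ≤ Cfsg.fittingSubgroup G' := by
  rw [Subgroup.map_le_iff_le_comap]
  exact sSup_le fun N hN => Subgroup.map_le_iff_le_comap.mp
    (le_fittingSubgroup (hN.1.map f hf) (isNilpotent_map f hN.2))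

theorem fittingSubgroup_map_mulEquiv {G' : Type*} [Group G'] (e : G ≃* G') :
    (Cfsg.fittingSubgroup G).map e.toMonoidHom = Cfsg.fittingSubgroup G' := by
  refine le_antisymm (map_fittingSubgroup_le _ e.surjective) fun x hx => ?_
  exact ⟨e.symm x, map_fittingSubgroup_le e.symm.toMonoidHom e.symm.surjective ⟨x, hx, rfl⟩,
    by simp⟩

instance fittingSubgroup_characteristic (G : Type*) [Group G] :
    (Cfsg.fittingSubgroup G).Characteristic :=
  Subgroup.characteristic_iff_map_eq.mpr fun e => fittingSubgroup_map_mulEquiv e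

theorem pCore_le_fittingSubgroup [Finite G] (p : ℕ) [Fact p.Prime] :
    Cfsg.pCore p G ≤ Cfsg.fittingSubgroup G :=
  le_fittingSubgroup (pCore_normal p G) (isPGroup_pCore p G).isNilpotent

theorem iSup_pCore_eq_top [Finite G] [Group.IsNilpotent G] :
    (⨆ p : Nat.Primes, Cfsg.pCore (p : ℕ) G) = ⊤ := by
  rw [← Subgroup.index_eq_one]
  by_contra h
  obtain ⟨q, hq, hd⟩ := Nat.exists_prime_and_dvd h
  have : Fact q.Prime := ⟨hq⟩
  obtain ⟨P⟩ := (inferInstance : Nonempty (Sylow q G))
  exact P.not_dvd_index (hd.trans (Subgroup.index_dvd_of_le ((pCore_eq_sylow P).ge.trans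
    (le_iSup (fun p : Nat.Primes => Cfsg.pCore (p : ℕ) G) ⟨q, hq⟩))))

theorem isNilpotent_iSup_pCore [Finite G] :
    Group.IsNilpotent ↥(⨆ p : Nat.Primes, Cfsg.pCore (p : ℕ) G) := by
  set F := ⨆ p : Nat.Primes, Cfsg.pCore (p : ℕ) G with hF
  refine ((Group.isNilpotent_of_finite_tfae (G := F)).out 0 3).mpr fun p hp P => ?_
  have : Fact p.Prime := hp
  have hle : Cfsg.pCore p G ≤ F :=
    le_iSup (fun q : Nat.Primes => Cfsg.pCore (q : ℕ) G) ⟨p, hp.out⟩
  set C : Subgroup F := (Cfsg.pCore p G).subgroupOf F with hC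
  have hCp : IsPGroup p C := (isPGroup_pCore p G).comap_subtype
  suffices h : C = P from h ▸ (inferInstance : C.Normal)
  refine Subgroup.eq_of_le_of_card_ge (hCp.le_sylow_of_normal P) (Nat.le_of_dvd Nat.card_pos ?_)
  have hsub : F ≤ Cfsg.pCore p G ⊔ Cfsg.pPrimeCore p G := by
    refine iSup_le fun q => ?_
    rcases eq_or_ne (q : ℕ) p with h | h
    · exact h ▸ le_sup_left
    · refine le_sup_of_le_right (le_pPrimeCore inferInstance ?_)
      have : Fact (q : ℕ).Prime := ⟨q.2⟩
      obtain ⟨n, hn⟩ := IsPGroup.iff_card.mp (isPGroup_pCore (q : ℕ) G)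
      rw [hn]
      exact ((Nat.coprime_primes q.2 hp.out).mpr h).pow_left n
  have hd : Nat.card (P : Subgroup F) ∣ Nat.card C * Nat.card (Cfsg.pPrimeCore p G) := by
    rw [hC, card_subgroupOf hle]
    exact ((P : Subgroup F).card_subgroup_dvd_card.trans (Subgroup.card_dvd_of_le hsub)).trans
      (card_sup_dvd _ _)
  refine Nat.Coprime.dvd_of_dvd_mul_right ?_ hd
  obtain ⟨n, hn⟩ := IsPGroup.iff_card.mp P.isPGroup'
  rw [hn]
  exact (coprime_card_pPrimeCore p).symm.pow_left n

/-- The Fitting subgroup is the join of the `p`-cores. -/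
theorem fittingSubgroup_eq_iSup_pCore [Finite G] :
    Cfsg.fittingSubgroup G = ⨆ p : Nat.Primes, Cfsg.pCore (p : ℕ) G := by
  refine le_antisymm (sSup_le fun N hN => ?_)
    (le_fittingSubgroup inferInstance isNilpotent_iSup_pCore)
  have := hN.1
  have := hN.2
  calc N = (⊤ : Subgroup N).map N.subtype := by
        rw [← MonoidHom.range_eq_map, Subgroup.range_subtype]
    _ = ⨆ p : Nat.Primes, (Cfsg.pCore (p : ℕ) N).map N.subtype := by
        rw [← iSup_pCore_eq_top, Subgroup.map_iSup]
    _ ≤ _ := iSup_mono fun p => (pCore_map_subtype N (p : ℕ)).le.trans inf_le_left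

/-- Fitting's theorem. -/
instance fittingSubgroup_isNilpotent [Finite G] : Group.IsNilpotent (Cfsg.fittingSubgroup G) := by
  rw [fittingSubgroup_eq_iSup_pCore]
  exact isNilpotent_iSup_pCore

theorem isNilpotent_of_le_fittingSubgroup [Finite G] {H : Subgroup G}
    (h : H ≤ Cfsg.fittingSubgroup G) : Group.IsNilpotent H :=
  isNilpotent_of_le h inferInstance

theorem le_fittingSubgroup_iff [Finite G] {N : Subgroup G} [hN : N.Normal] :
    N ≤ Cfsg.fittingSubgroup G ↔ Group.IsNilpotent N :=
  ⟨isNilpotent_of_le_fittingSubgroup, le_fittingSubgroup hN⟩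

theorem fittingSubgroup_eq_top_iff [Finite G] :
    Cfsg.fittingSubgroup G = ⊤ ↔ Group.IsNilpotent G :=
  ⟨fun h => Group.isNilpotent_top.mp (h ▸ fittingSubgroup_isNilpotent (G := G)),
    fun h => top_le_iff.mp (le_fittingSubgroup inferInstance (Group.isNilpotent_top.mpr h))⟩

/-- The join of two normal nilpotent subgroups is nilpotent. -/
theorem nilpotent_sup [Finite G] (A B : Subgroup G) [hA : A.Normal] [hB : B.Normal]
    (h1 : Group.IsNilpotent A) (h2 : Group.IsNilpotent B) : Group.IsNilpotent ↥(A ⊔ B) :=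
  isNilpotent_of_le_fittingSubgroup (sup_le (le_fittingSubgroup hA h1) (le_fittingSubgroup hB h2))

theorem fittingSubgroup_eq_bot_iff [Finite G] :
    Cfsg.fittingSubgroup G = ⊥ ↔ ∀ p : ℕ, p.Prime → Cfsg.pCore p G = ⊥ := by
  rw [fittingSubgroup_eq_iSup_pCore, iSup_eq_bot]
  exact ⟨fun h p hp => h ⟨p, hp⟩, fun h p => h p p.2⟩

theorem fittingSubgroup_map_le_of_isSubnormal [Finite G] {K : Subgroup G} (hK : K.IsSubnormal) :
    (Cfsg.fittingSubgroup K).map K.subtype ≤ Cfsg.fittingSubgroup G := by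
  rw [fittingSubgroup_eq_iSup_pCore, fittingSubgroup_eq_iSup_pCore, Subgroup.map_iSup]
  exact iSup_mono fun p => pCore_map_le_of_isSubnormal hK (p : ℕ)

/-- Subnormal nilpotent subgroups lie in the Fitting subgroup. -/
theorem le_fittingSubgroup_of_isSubnormal [Finite G] {K : Subgroup G} (hK : K.IsSubnormal)
    (h : Group.IsNilpotent K) : K ≤ Cfsg.fittingSubgroup G := by
  have := fittingSubgroup_map_le_of_isSubnormal hK
  rwa [fittingSubgroup_eq_top_iff.mpr h, ← MonoidHom.range_eq_map, Subgroup.range_subtype] at this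

theorem isSubnormal_of_le_fittingSubgroup [Finite G] {H : Subgroup G}
    (h : H ≤ Cfsg.fittingSubgroup G) : H.IsSubnormal :=
  (isSubnormal_of_nilpotent (H.subgroupOf (Cfsg.fittingSubgroup G))).trans h
    (fittingSubgroup_normal G).isSubnormal

theorem fittingSubgroup_map_subtype [Finite G] (N : Subgroup G) [hN : N.Normal] :
    (Cfsg.fittingSubgroup N).map N.subtype = Cfsg.fittingSubgroup G ⊓ N := by
  refine le_antisymm (le_inf (fittingSubgroup_map_le_of_isSubnormal hN.isSubnormal)
    (Subgroup.map_subtype_le _)) ?_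
  have h : (Cfsg.fittingSubgroup G ⊓ N).subgroupOf N ≤ Cfsg.fittingSubgroup N :=
    le_fittingSubgroup inferInstance (Group.nilpotent_of_mulEquiv
      (_h := isNilpotent_of_le_fittingSubgroup (H := Cfsg.fittingSubgroup G ⊓ N) inf_le_left)
      (Subgroup.subgroupOfEquivOfLe (inf_le_right (a := Cfsg.fittingSubgroup G))).symm)
  intro x hx
  exact ⟨⟨x, hx.2⟩, h (Subgroup.mem_subgroupOf.mpr hx), rfl⟩

theorem pCore_fittingSubgroup [Finite G] (p : ℕ) [Fact p.Prime] :
    (Cfsg.pCore p (Cfsg.fittingSubgroup G)).map (Cfsg.fittingSubgroup G).subtype =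
      Cfsg.pCore p G := by
  rw [pCore_map_subtype]
  exact inf_eq_left.mpr (pCore_le_fittingSubgroup p)

/-- A nontrivial normal subgroup of a nilpotent group meets the centre. -/
theorem inf_center_ne_bot [Group.IsNilpotent G] (N : Subgroup G) [hN : N.Normal] (h : N ≠ ⊥) :
    N ⊓ Subgroup.center G ≠ ⊥ := by
  classical
  have hex : ∃ i, N ⊓ Subgroup.upperCentralSeries G i ≠ ⊥ := by
    obtain ⟨n, hn⟩ := Group.IsNilpotent.nilpotent G
    exact ⟨n, by rwa [hn, inf_top_eq]⟩
  obtain ⟨i, hi⟩ : ∃ i, i + 1 = Nat.find hex := by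
    refine ⟨Nat.find hex - 1, Nat.succ_pred_eq_of_ne_zero fun h0 => ?_⟩
    have := Nat.find_spec hex
    simp only [show Nat.find hex = 0 from h0] at this
    exact this (by simp)
  have h1 : N ⊓ Subgroup.upperCentralSeries G (i + 1) ≠ ⊥ := hi ▸ Nat.find_spec hex
  have h2 : N ⊓ Subgroup.upperCentralSeries G i = ⊥ :=
    not_not.mp (Nat.find_min hex (by omega))
  intro hbot
  apply h1
  rw [eq_bot_iff]
  intro x hx
  rw [← hbot]
  refine ⟨hx.1, Subgroup.mem_center_iff.mpr fun g => ?_⟩
  have h3 : x * g * x⁻¹ * g⁻¹ ∈ N ⊓ Subgroup.upperCentralSeries G i := by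
    refine ⟨?_, Subgroup.mem_upperCentralSeries_succ_iff.mp hx.2 g⟩
    have := N.mul_mem hx.1 (hN.conj_mem _ (N.inv_mem hx.1) g)
    simpa [mul_assoc] using this
  rw [h2, Subgroup.mem_bot] at h3
  exact (commutatorElement_eq_one_iff_mul_comm.mp (by rwa [commutatorElement_def])).symm

/-- In a finite group the Fitting subgroup centralizes every minimal normal subgroup. -/
theorem fitting_le_centralizer_minimalNormal [Finite G] (M : Subgroup G) [hM : M.Normal]
    (hmin : ∀ K : Subgroup G, K.Normal → K ≤ M → K = ⊥ ∨ K = M) :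
    Cfsg.fittingSubgroup G ≤ Subgroup.centralizer (M : Set G) := by
  set F := Cfsg.fittingSubgroup G with hF
  rcases hmin (M ⊓ F) inferInstance inf_le_left with h | h
  · intro x hx m hm
    exact (Subgroup.commute_of_normal_of_disjoint _ _ hM inferInstance (disjoint_iff.mpr h)
      m x hm hx).eq
  by_cases hMb : M = ⊥
  · intro x _ m hm
    rw [hMb, SetLike.mem_coe, Subgroup.mem_bot] at hm
    simp [hm]
  have hMF : M ≤ F := inf_eq_left.mp h
  have hne : M.subgroupOf F ≠ ⊥ := fun h0 => hMb (by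
    rw [← Subgroup.map_subgroupOf_eq_of_le hMF, h0, Subgroup.map_bot])
  have h1 := inf_center_ne_bot (M.subgroupOf F) hne
  have h2 : ((Subgroup.center F).map F.subtype).Normal := map_subtype_normal_of_characteristic F _
  rcases hmin (M ⊓ (Subgroup.center F).map F.subtype) inferInstance inf_le_left with h3 | h3
  · refine absurd ((Subgroup.map_eq_bot_iff_of_injective _ F.subtype_injective).mp
      (le_bot_iff.mp ?_)) h1
    rw [← h3]
    exact le_inf ((Subgroup.map_mono inf_le_left).trans (Subgroup.map_subgroupOf_eq_of_le hMF).le)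
      (Subgroup.map_mono inf_le_right)
  · intro x hx m hm
    obtain ⟨y, hy, rfl⟩ := (inf_eq_left.mp h3) hm
    exact (congrArg Subtype.val (Subgroup.mem_center_iff.mp hy ⟨x, hx⟩)).symm

end Cfsg.Agent.Cores
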