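/-
The Frattini subgroup (helper3).

Main results (namespace `Cfsg.Agent.Cores`):
* le_frattini, le_frattini_of_le_frattini_subgroup, frattini_map_subtype_le
* map_frattini_le, frattini_map_of_ker_le, frattini_quotient_self
* isNilpotent_of_map_of_ker_le_frattini, fittingSubgroup_map_of_ker_le_frattini
* prime_dvd_index_frattini
* commutator_le_frattini (nilpotent), pow_mem_frattini, frattini_le_of_pGroup, index_frattini_le_of_closure
* exists_complement_of_frattini_eq_bot, fittingSubgroup_eq_sSup_minimal_of_frattini_eq_bot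
-/
import Cfsg.Agent.Lib.Cores.Fitting

set_option autoImplicit false
open scoped commutatorElement Pointwise

namespace Cfsg.Agent.Cores

variable {G : Type*} [Group G]

theorem le_frattini {N : Subgroup G} (h : ∀ M : Subgroup G, IsCoatom M → N ≤ M) :
    N ≤ frattini G := by
  simp only [frattini, Order.radical]
  exact le_iInf₂ h

theorem frattini_fittingSubgroup [Finite G] : frattini G ≤ Cfsg.fittingSubgroup G :=
  le_fittingSubgroup inferInstance frattini_nilpotent

/-- A normal subgroup inside the Frattini subgroup of some subgroup lies in `Φ(G)`. -/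
theorem le_frattini_of_le_frattini_subgroup [Finite G] (K F : Subgroup G) [hF : F.Normal]
    (h : F ≤ (frattini K).map K.subtype) : F ≤ frattini G := by
  refine le_frattini fun M hM => ?_
  by_contra hFM
  have htop : M ⊔ F = ⊤ := hM.2 _ (lt_of_le_of_ne le_sup_left fun he => hFM (he ▸ le_sup_right))
  have hK : M.subgroupOf K ⊔ frattini K = ⊤ := by
    rw [Subgroup.eq_top_iff']
    intro k
    have hk : (k : G) ∈ (M : Set G) * (F : Set G) := by
      rw [← Subgroup.mul_normal, htop]; trivial
    obtain ⟨m, hm, f, hf, he⟩ := hk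
    obtain ⟨f', hf', rfl⟩ := h hf
    have hk2 : k = (k * f'⁻¹) * f' := by simp
    rw [hk2]
    refine Subgroup.mul_mem_sup ?_ hf'
    rw [Subgroup.mem_subgroupOf]
    simp only [Subgroup.coe_mul, Subgroup.coe_inv, ← he, Subgroup.coe_subtype, mul_inv_cancel_right]
    exact hm
  have := Subgroup.subgroupOf_eq_top.mp (frattini_nongenerating hK)
  exact hFM ((h.trans (Subgroup.map_subtype_le _)).trans this)

theorem frattini_map_subtype_le [Finite G] (H : Subgroup G) [H.Normal] :
    (frattini H).map H.subtype ≤ frattini G :=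
  have : ((frattini H).map H.subtype).Normal := map_subtype_normal_of_characteristic H _
  le_frattini_of_le_frattini_subgroup H _ le_rfl

/-! ### Quotients -/

theorem map_frattini_le {G' : Type*} [Group G'] (f : G →* G') (hf : Function.Surjective f) :
    (frattini G).map f ≤ frattini G' :=
  Subgroup.map_le_iff_le_comap.mpr (frattini_le_comap_frattini_of_surjective hf)

theorem comap_frattini_le {G' : Type*} [Group G'] (f : G →* G') (hf : Function.Surjective f)
    (hker : f.ker ≤ frattini G) : (frattini G').comap f ≤ frattini G := by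
  refine le_frattini fun M hM => ?_
  have hk : f.ker ≤ M := hker.trans (frattini_le_coatom hM)
  have hco : IsCoatom (M.map f) := by
    refine ⟨fun ht => hM.1 ?_, fun L hL => ?_⟩
    · rw [← Subgroup.comap_map_eq_self hk, ht, Subgroup.comap_top]
    · have h1 : M < L.comap f := by
        rw [← Subgroup.comap_map_eq_self hk]
        exact (Subgroup.comap_lt_comap_of_surjective hf).mpr hL
      rw [← Subgroup.map_comap_eq_self_of_surjective hf L, hM.2 _ h1,
        Subgroup.map_top_of_surjective f hf]
  rw [← Subgroup.comap_map_eq_self hk]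
  exact Subgroup.comap_mono (frattini_le_coatom hco)

theorem frattini_map_of_ker_le {G' : Type*} [Group G'] (f : G →* G') (hf : Function.Surjective f)
    (hker : f.ker ≤ frattini G) : (frattini G).map f = frattini G' := by
  refine le_antisymm (map_frattini_le f hf) ?_
  rw [← Subgroup.map_comap_eq_self_of_surjective hf (frattini G')]
  exact Subgroup.map_mono (comap_frattini_le f hf hker)

theorem frattini_quotient_of_le (N : Subgroup G) [N.Normal] (h : N ≤ frattini G) :
    (frattini G).map (QuotientGroup.mk' N) = frattini (G ⧸ N) :=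
  frattini_map_of_ker_le _ (QuotientGroup.mk'_surjective N) (by rwa [QuotientGroup.ker_mk'])

theorem frattini_quotient_self : frattini (G ⧸ frattini G) = ⊥ := by
  rw [← frattini_quotient_of_le _ le_rfl, Subgroup.map_eq_bot_iff, QuotientGroup.ker_mk']

/-- Nilpotency lifts through a kernel inside the Frattini subgroup. -/
theorem isNilpotent_of_map_of_ker_le_frattini [Finite G] {G' : Type*} [Group G'] (f : G →* G')
    (hf : Function.Surjective f) (hker : f.ker ≤ frattini G) (A : Subgroup G) [hA : A.Normal]
    (h : Group.IsNilpotent (A.map f)) : Group.IsNilpotent A := by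
  refine ((Group.isNilpotent_of_finite_tfae (G := A)).out 0 3).mpr fun p hp P => ?_
  have : Fact p.Prime := hp
  have : Finite G' := Finite.of_surjective _ hf
  have : (A.map f).Normal := hA.map f hf
  let Q : Sylow p (A.map f) := P.mapSurjective (f.subgroupMap_surjective A)
  set R : Subgroup G' := (Q : Subgroup (A.map f)).map (A.map f).subtype with hR
  have hR' : R = ((P : Subgroup A).map A.subtype).map f := by
    rw [hR, Sylow.coe_mapSurjective, Subgroup.map_map, Subgroup.map_map]
    rfl
  have : (Q : Subgroup (A.map f)).Characteristic :=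
    Q.characteristic_of_normal inferInstance
  have hRn : R.Normal := map_subtype_normal_of_characteristic (A.map f) _
  set T : Subgroup G := (P : Subgroup A).map A.subtype with hT
  set B : Subgroup G := A ⊓ R.comap f with hB
  have hTA : T ≤ A := Subgroup.map_subtype_le _
  have hTB : T ≤ B := le_inf hTA (Subgroup.map_le_iff_le_comap.mp (hR' ▸ le_rfl))
  have : B.Normal := inferInstance
  have hTp : IsPGroup p T := P.isPGroup'.map _
  have hS : ¬ p ∣ (T.subgroupOf B).index := by
    intro hd
    refine P.not_dvd_index ?_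
    have h1 : T.relIndex B ∣ T.relIndex A := ⟨_, (T.relIndex_mul_relIndex B A hTB inf_le_left).symm⟩
    rw [show T.relIndex A = (P : Subgroup A).index by
      rw [hT, Subgroup.relIndex, Subgroup.subgroupOf,
        Subgroup.comap_map_eq_self_of_injective A.subtype_injective]] at h1
    exact hd.trans h1
  let S : Sylow p B := (hTp.comap_subtype).toSylow hS
  have hSm : (S : Subgroup B).map B.subtype = T := Subgroup.map_subgroupOf_eq_of_le hTB
  have hfr := Sylow.normalizer_sup_eq_top S
  rw [hSm] at hfr
  have hBle : B ≤ T ⊔ f.ker := by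
    intro x hx
    rw [← Subgroup.comap_map_eq, ← hR']
    exact hx.2
  have h1 : Subgroup.normalizer (T : Set G) ⊔ frattini G = ⊤ := top_le_iff.mp (hfr.ge.trans
    (sup_le le_sup_left (hBle.trans (sup_le (Subgroup.le_normalizer.trans le_sup_left)
      (hker.trans le_sup_right)))))
  have hn : T.Normal := Subgroup.normalizer_eq_top_iff.mp (frattini_nongenerating h1)
  exact hn.of_map_subtype

theorem fittingSubgroup_map_of_ker_le_frattini [Finite G] {G' : Type*} [Group G'] (f : G →* G')
    (hf : Function.Surjective f) (hker : f.ker ≤ frattini G) :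
    (Cfsg.fittingSubgroup G).map f = Cfsg.fittingSubgroup G' := by
  have : Finite G' := Finite.of_surjective _ hf
  refine le_antisymm (map_fittingSubgroup_le f hf) ?_
  rw [← Subgroup.map_comap_eq_self_of_surjective hf (Cfsg.fittingSubgroup G')]
  refine Subgroup.map_mono (le_fittingSubgroup inferInstance
    (isNilpotent_of_map_of_ker_le_frattini f hf hker _ ?_))
  rw [Subgroup.map_comap_eq_self_of_surjective hf]
  infer_instance

/-- Every prime dividing `|G|` divides `|G : Φ(G)|`. -/
theorem prime_dvd_index_frattini [Finite G] {p : ℕ} (hp : p.Prime) (hd : p ∣ Nat.card G) :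
    p ∣ (frattini G).index := by
  by_contra hn
  have : Fact p.Prime := ⟨hp⟩
  have : Group.IsNilpotent (frattini G) := frattini_nilpotent
  obtain ⟨S⟩ := (inferInstance : Nonempty (Sylow p G))
  have hle : (S : Subgroup G) ≤ frattini G := by
    intro x hx
    have h1 : IsPGroup p ((S : Subgroup G).map (QuotientGroup.mk' (frattini G))) :=
      S.isPGroup'.map _
    have h2 : (S : Subgroup G).map (QuotientGroup.mk' (frattini G)) = ⊥ := by
      refine Subgroup.card_eq_one.mp ((h1.card_eq_or_dvd).resolve_right fun h => hn ?_)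
      exact h.trans (Subgroup.card_subgroup_dvd_card _)
    rw [Subgroup.map_eq_bot_iff, QuotientGroup.ker_mk'] at h2
    exact h2 hx
  have hSn : (S : Subgroup G).Normal := by
    have hn' : ((S.subtype hle : Sylow p (frattini G)) : Subgroup (frattini G)).Normal :=
      inferInstance
    have : ((S.subtype hle : Sylow p (frattini G)) : Subgroup (frattini G)).Characteristic :=
      (S.subtype hle).characteristic_of_normal hn'
    have h3 := map_subtype_normal_of_characteristic (frattini G)
      ((S.subtype hle : Sylow p (frattini G)) : Subgroup (frattini G))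
    rwa [Sylow.coe_subtype, Subgroup.map_subgroupOf_eq_of_le hle] at h3
  obtain ⟨K, hK⟩ := Subgroup.exists_right_complement'_of_coprime (N := (S : Subgroup G))
    S.card_coprime_index
  have hKt : K = ⊤ := frattini_nongenerating (top_le_iff.mp
    (hK.sup_eq_top.ge.trans (sup_le (hle.trans le_sup_right) le_sup_left)))
  subst hKt
  exact S.ne_bot_of_dvd_card hd (Subgroup.isComplement'_top_right.mp hK)

/-! ### Nilpotent groups and p-groups -/

theorem exists_zpow_mk_of_coatom {M : Subgroup G} [M.Normal] (hM : IsCoatom M) {x : G}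
    (hx : x ∉ M) (a : G) : ∃ k : ℤ, ((x ^ k : G) : G ⧸ M) = a := by
  have htop : Subgroup.zpowers x ⊔ M = ⊤ :=
    hM.2 _ (lt_of_le_of_ne le_sup_right fun h => hx (h.ge (Subgroup.mem_sup_left
      (Subgroup.mem_zpowers x))))
  have ha : a ∈ (Subgroup.zpowers x : Set G) * (M : Set G) := by
    rw [← Subgroup.mul_normal, htop]; trivial
  obtain ⟨_, ⟨k, rfl⟩, m, hm, rfl⟩ := ha
  exact ⟨k, QuotientGroup.eq.mpr (by simpa using hm)⟩

theorem coatom_normal_of_nilpotent [Finite G] [Group.IsNilpotent G] {M : Subgroup G}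
    (hM : IsCoatom M) : M.Normal :=
  ((Group.isNilpotent_of_finite_tfae (G := G)).out 0 2 rfl rfl).mp (inferInstance : Group.IsNilpotent G) M hM

theorem commutator_le_frattini [Finite G] [Group.IsNilpotent G] :
    commutator G ≤ frattini G := by
  refine le_frattini fun M hM => ?_
  have := coatom_normal_of_nilpotent hM
  obtain ⟨x, hx⟩ : ∃ x, x ∉ M := not_forall.mp fun h => hM.1 ((Subgroup.eq_top_iff' M).mpr h)
  rw [commutator_def, Subgroup.commutator_le]
  intro a _ b _
  obtain ⟨i, hi⟩ := exists_zpow_mk_of_coatom hM hx a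
  obtain ⟨j, hj⟩ := exists_zpow_mk_of_coatom hM hx b
  rw [← QuotientGroup.eq_one_iff, ← QuotientGroup.mk'_apply, map_commutatorElement,
    commutatorElement_eq_one_iff_mul_comm]
  simp only [QuotientGroup.mk'_apply, ← hi, ← hj, ← QuotientGroup.mk_mul, ← zpow_add, add_comm]

theorem pow_mem_frattini [Finite G] {p : ℕ} [hp : Fact p.Prime] (hG : IsPGroup p G) (x : G) :
    x ^ p ∈ frattini G := by
  have : Group.IsNilpotent G := hG.isNilpotent
  have key : ∀ M : Subgroup G, IsCoatom M → x ^ p ∈ M := by
    intro M hM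
    have := coatom_normal_of_nilpotent hM
    by_contra hxp
    obtain ⟨k, hk⟩ := exists_zpow_mk_of_coatom hM hxp x
    obtain ⟨n, hn⟩ := IsPGroup.iff_orderOf.mp (hG.to_quotient M) (x : G ⧸ M)
    have h1 : (x : G ⧸ M) ^ ((p : ℤ) * k - 1) = 1 := by
      rw [zpow_sub_one, zpow_mul, zpow_natCast, ← QuotientGroup.mk_pow, ← QuotientGroup.mk_zpow,
        hk, mul_inv_cancel]
    rw [← orderOf_dvd_iff_zpow_eq_one, hn] at h1
    rcases n with _ | n
    · have h2 : (x : G ⧸ M) = 1 := orderOf_eq_one_iff.mp (by simpa using hn)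
      exact hxp (pow_mem ((QuotientGroup.eq_one_iff x).mp h2) p)
    · have h2 : (p : ℤ) ∣ ((p : ℤ) * k - 1) :=
        dvd_trans (by push_cast; exact dvd_pow_self _ (Nat.succ_ne_zero n)) h1
      have h3 : (p : ℤ) ∣ 1 := by simpa using (dvd_mul_right (p : ℤ) k).sub h2
      exact hp.out.ne_one (Nat.dvd_one.mp (by exact_mod_cast h3))
  exact le_frattini (N := Subgroup.zpowers (x ^ p))
    (fun M hM => Subgroup.zpowers_le.mpr (key M hM)) (Subgroup.mem_zpowers _)

theorem frattini_le_of_pGroup [Finite G] {p : ℕ} [hp : Fact p.Prime] (N : Subgroup G)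
    (hcomm : commutator G ≤ N) (hpow : ∀ x : G, x ^ p ∈ N) : frattini G ≤ N := by
  intro x hx
  by_contra hxN
  obtain ⟨M, hNM, hM1, hmax⟩ := exists_maximal_ge_of_wellFoundedGT
    (fun M : Subgroup G => x ∉ M) N hxN
  have hMn : M.Normal := Subgroup.Normal.of_commutator_le G (hcomm.trans hNM)
  refine hM1 (frattini_le_coatom ⟨fun h => hM1 ((Subgroup.eq_top_iff' M).mp h x), fun L hL => ?_⟩ hx)
  have hxL : x ∈ L := by
    by_contra h
    exact absurd (hmax h hL.le) hL.not_ge
  rw [Subgroup.eq_top_iff']
  intro y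
  by_cases hy : y ∈ M
  · exact hL.le hy
  have hxy : x ∈ (Subgroup.zpowers y : Set G) * (M : Set G) := by
    rw [← Subgroup.mul_normal]
    by_contra h
    exact hy ((hmax h le_sup_right) (Subgroup.mem_sup_left (Subgroup.mem_zpowers y)))
  obtain ⟨_, ⟨k, rfl⟩, m, hm, hxe⟩ := hxy
  have hk : IsCoprime k (p : ℤ) := by
    rw [Int.isCoprime_iff_gcd_eq_one, Int.gcd_comm]
    refine (Nat.Prime.coprime_iff_not_dvd hp.out).mpr fun hd => hM1 ?_
    obtain ⟨j, hj⟩ := Int.natCast_dvd.mpr hd
    rw [← hxe]
    refine M.mul_mem ?_ hm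
    simp only [hj, zpow_mul, zpow_natCast]
    exact M.zpow_mem (hNM (hpow y)) j
  obtain ⟨u, v, huv⟩ := hk
  have h1 : y ^ k ∈ L := by
    have := L.mul_mem hxL (L.inv_mem (hL.le hm))
    rwa [← hxe, mul_inv_cancel_right] at this
  have : y = (y ^ k) ^ u * (y ^ p) ^ v := by
    rw [← zpow_natCast y p, ← zpow_mul, ← zpow_mul, ← zpow_add, mul_comm k u, mul_comm (p : ℤ) v,
      huv, zpow_one]
  rw [this]
  exact L.mul_mem (L.zpow_mem h1 u) (L.zpow_mem (hL.le (hNM (hpow y))) v)

/-- Adding one element to a subgroup above `Φ(G)` lowers the index by a factor `p` at most. -/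
theorem index_sup_zpowers [Finite G] {p : ℕ} [hp : Fact p.Prime] (hG : IsPGroup p G)
    (K : Subgroup G) (hK : frattini G ≤ K) {y : G} (hy : y ∉ K) :
    K.index = p * (K ⊔ Subgroup.zpowers y).index := by
  have : Group.IsNilpotent G := hG.isNilpotent
  have : K.Normal := Subgroup.Normal.of_commutator_le G (commutator_le_frattini.trans hK)
  have hord : orderOf (y : G ⧸ K) = p := orderOf_eq_prime
    ((QuotientGroup.eq_one_iff _).mpr (hK (pow_mem_frattini hG y)))
    fun h => hy ((QuotientGroup.eq_one_iff _).mp h)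
  have h1 : (K ⊔ Subgroup.zpowers y).index = (Subgroup.zpowers (y : G ⧸ K)).index := by
    rw [← Subgroup.index_comap_of_surjective (f := QuotientGroup.mk' K) _
      (QuotientGroup.mk'_surjective K), ← QuotientGroup.mk'_apply, ← MonoidHom.map_zpowers,
      Subgroup.comap_map_eq, QuotientGroup.ker_mk', sup_comm]
  rw [h1, ← hord, ← Nat.card_zpowers, Subgroup.card_mul_index]
  rfl

theorem index_frattini_le_of_closure [Finite G] {p : ℕ} [hp : Fact p.Prime] (hG : IsPGroup p G)
    (T : Finset G) :
    ∃ j ≤ T.card, (frattini G).index = p ^ j * (frattini G ⊔ Subgroup.closure (T : Set G)).index := by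
  classical
  induction T using Finset.induction_on with
  | empty => exact ⟨0, le_rfl, by simp⟩
  | @insert a s ha ih =>
    obtain ⟨j, hj, he⟩ := ih
    rw [Finset.card_insert_of_notMem ha, Finset.coe_insert, Set.insert_eq, Subgroup.closure_union,
      ← Subgroup.zpowers_eq_closure, sup_comm (Subgroup.zpowers a), ← sup_assoc]
    by_cases h : a ∈ frattini G ⊔ Subgroup.closure (s : Set G)
    · exact ⟨j, by omega, by rwa [sup_eq_left.mpr (Subgroup.zpowers_le.mpr h)]⟩
    · refine ⟨j + 1, by omega, ?_⟩
      rw [he, index_sup_zpowers hG _ le_sup_left h, pow_succ]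
      ring

theorem exists_subset_generating [Finite G] {p n : ℕ} [hp : Fact p.Prime] (hG : IsPGroup p G)
    (hn : (frattini G).index = p ^ n) (S : Set G) (hS : Subgroup.closure S = ⊤) :
    ∃ T : Finset G, (T : Set G) ⊆ S ∧ T.card = n ∧ Subgroup.closure (T : Set G) = ⊤ := by
  classical
  suffices h : ∀ j ≤ n, ∃ T : Finset G, (T : Set G) ⊆ S ∧ T.card = j ∧
      (frattini G ⊔ Subgroup.closure (T : Set G)).index = p ^ (n - j) by
    obtain ⟨T, h1, h2, h3⟩ := h n le_rfl
    rw [Nat.sub_self, pow_zero, Subgroup.index_eq_one, sup_comm] at h3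
    exact ⟨T, h1, h2, frattini_nongenerating h3⟩
  intro j hj
  induction j with
  | zero => exact ⟨∅, by simp, rfl, by simpa using hn⟩
  | succ j ih =>
    obtain ⟨T, h1, h2, h3⟩ := ih (by omega)
    set K := frattini G ⊔ Subgroup.closure (T : Set G) with hK
    obtain ⟨s, hsS, hsK⟩ : ∃ s ∈ S, s ∉ K := by
      by_contra hcon
      push_neg at hcon
      have : K = ⊤ := top_le_iff.mp (hS.ge.trans ((Subgroup.closure_le K).mpr hcon))
      rw [this, Subgroup.index_top] at h3
      have := Nat.one_lt_pow (show n - j ≠ 0 by omega) hp.out.one_lt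
      omega
    refine ⟨insert s T, ?_, ?_, ?_⟩
    · rw [Finset.coe_insert]; exact Set.insert_subset hsS h1
    · rw [Finset.card_insert_of_notMem fun h =>
        hsK (Subgroup.mem_sup_right (Subgroup.subset_closure h)), h2]
    · rw [Finset.coe_insert, Set.insert_eq, Subgroup.closure_union, ← Subgroup.zpowers_eq_closure,
        sup_comm (Subgroup.zpowers s), ← sup_assoc]
      have h4 := index_sup_zpowers hG K le_sup_left hsK
      rw [h3, show n - j = (n - (j + 1)) + 1 by omega, pow_succ, mul_comm] at h4
      exact (Nat.eq_of_mul_eq_mul_left hp.out.pos h4).symm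

/-! ### Trivial Frattini subgroup -/

/-- If `Φ(G) = 1`, every abelian normal subgroup has a complement. -/
theorem exists_complement_of_frattini_eq_bot [Finite G] (hΦ : frattini G = ⊥) (A : Subgroup G)
    [hA : A.Normal] [IsMulCommutative A] : ∃ K : Subgroup G, A ⊔ K = ⊤ ∧ A ⊓ K = ⊥ := by
  obtain ⟨K, _, hK, hmin⟩ :=
    exists_minimal_le_of_wellFoundedLT (fun K : Subgroup G => A ⊔ K = ⊤) ⊤ (sup_top_eq A)
  refine ⟨K, hK, ?_⟩
  have hD : (A ⊓ K).Normal := by
    rw [← Subgroup.normalizer_eq_top_iff, ← top_le_iff, ← hK]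
    refine sup_le ((Subgroup.le_centralizer A).trans ?_) ?_
    · refine le_trans ?_ (Subgroup.centralizer_le_normalizer _)
      exact Subgroup.centralizer_le inf_le_left
    · exact (le_inf (le_top.trans (Subgroup.normalizer_eq_top_iff.mpr hA).ge)
        Subgroup.le_normalizer).trans (Subgroup.inf_normalizer_le_normalizer_inf)
  refine le_bot_iff.mp ((le_frattini_of_le_frattini_subgroup K (A ⊓ K) ?_).trans hΦ.le)
  have hle : (A ⊓ K).subgroupOf K ≤ frattini K := by
    refine le_frattini fun L hL => ?_
    by_contra hn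
    have h1 : L ⊔ (A ⊓ K).subgroupOf K = ⊤ :=
      hL.2 _ (lt_of_le_of_ne le_sup_left fun he => hn (he ▸ le_sup_right))
    have h2 := congrArg (Subgroup.map K.subtype) h1
    rw [Subgroup.map_sup, Subgroup.map_subgroupOf_eq_of_le inf_le_right, ← MonoidHom.range_eq_map,
      Subgroup.range_subtype] at h2
    have h3 : A ⊔ L.map K.subtype = ⊤ := top_le_iff.mp (hK.ge.trans (sup_le le_sup_left
      (h2.ge.trans (sup_le le_sup_right (inf_le_left.trans le_sup_left)))))
    refine hL.1 (Subgroup.map_injective K.subtype_injective ?_)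
    rw [← MonoidHom.range_eq_map, Subgroup.range_subtype]
    exact le_antisymm (Subgroup.map_subtype_le _) (hmin h3 (Subgroup.map_subtype_le _))
  exact (Subgroup.map_subgroupOf_eq_of_le inf_le_right).ge.trans (Subgroup.map_mono hle)

theorem fittingSubgroup_isMulCommutative_of_frattini_eq_bot [Finite G] (hΦ : frattini G = ⊥) :
    IsMulCommutative (Cfsg.fittingSubgroup G) := by
  refine .of_setLike_mul_comm fun a ha b hb => ?_
  have h : ((⁅(⟨a, ha⟩ : Cfsg.fittingSubgroup G), ⟨b, hb⟩⁆ : Cfsg.fittingSubgroup G) : G) ∈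
      (frattini (Cfsg.fittingSubgroup G)).map (Cfsg.fittingSubgroup G).subtype :=
    ⟨_, commutator_le_frattini (Subgroup.commutator_mem_commutator (Subgroup.mem_top _)
      (Subgroup.mem_top _)), rfl⟩
  have h2 := frattini_map_subtype_le _ h
  rw [hΦ, Subgroup.mem_bot] at h2
  exact commutatorElement_eq_one_iff_mul_comm.mp h2

theorem fittingSubgroup_eq_sSup_minimal_of_frattini_eq_bot [Finite G] (hΦ : frattini G = ⊥) :
    Cfsg.fittingSubgroup G = sSup {N : Subgroup G | N.Normal ∧ N ≠ ⊥ ∧ IsMulCommutative N ∧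
      ∀ K : Subgroup G, K.Normal → K ≤ N → K = ⊥ ∨ K = N} := by
  set F := Cfsg.fittingSubgroup G with hF
  set A := sSup {N : Subgroup G | N.Normal ∧ N ≠ ⊥ ∧ IsMulCommutative N ∧
      ∀ K : Subgroup G, K.Normal → K ≤ N → K = ⊥ ∨ K = N} with hA
  have hFc := fittingSubgroup_isMulCommutative_of_frattini_eq_bot hΦ
  have hsub : ∀ B : Subgroup G, B ≤ F → IsMulCommutative B := fun B hB =>
    .of_setLike_mul_comm fun a ha b hb => setLike_mul_comm (hB ha) (hB hb)
  have hAF : A ≤ F := sSup_le fun N hN =>
    have := hN.2.2.1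
    le_fittingSubgroup hN.1 (isNilpotent_of_isMulCommutative N)
  refine le_antisymm ?_ hAF
  have : A.Normal := Subgroup.sSup_normal _ fun _ h => h.1
  have := hsub A hAF
  obtain ⟨K, hK1, hK2⟩ := exists_complement_of_frattini_eq_bot hΦ A
  have hD : (F ⊓ K).Normal := by
    rw [← Subgroup.normalizer_eq_top_iff, ← top_le_iff, ← hK1]
    refine sup_le ?_ ?_
    · exact (hAF.trans (Subgroup.le_centralizer F)).trans ((Subgroup.centralizer_le inf_le_left).trans
        (Subgroup.centralizer_le_normalizer _))
    · exact (le_inf (le_top.trans (Subgroup.normalizer_eq_top_iff.mpr inferInstance).ge)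
        Subgroup.le_normalizer).trans (Subgroup.inf_normalizer_le_normalizer_inf)
  have hDb : F ⊓ K = ⊥ := by
    by_contra h
    obtain ⟨M, hMle, hMn, hMb, hmin⟩ := exists_minimal_normal_le (F ⊓ K) h
    have hMA : M ≤ A := le_sSup ⟨hMn, hMb, hsub M (hMle.trans inf_le_left), hmin⟩
    exact hMb (le_bot_iff.mp ((le_inf hMA (hMle.trans inf_le_right)).trans hK2.le))
  intro x hx
  have hxm : x ∈ (A : Set G) * (K : Set G) := by
    rw [← Subgroup.normal_mul, hK1]; trivial
  obtain ⟨a, ha, k, hk, rfl⟩ := hxm
  have hkF : k ∈ F := by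
    have := F.mul_mem (F.inv_mem (hAF ha)) hx
    simpa using this
  have hk1 : k = 1 := Subgroup.mem_bot.mp (hDb ▸ ⟨hkF, hk⟩)
  simpa [hk1] using ha

end Cfsg.Agent.Cores
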