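/-
Core-free maximal subgroups (helper3).

Main results (namespace `Cfsg.Agent.Cores`):
* sup_eq_top_of_coreFree, centralizer_inf_eq_bot_of_coreFree, eq_centralizer_of_le_of_coreFree
* minimalNormal_pair_of_coreFree
-/
import Cfsg.Agent.Lib.Cores.Basic

set_option autoImplicit false
open scoped Pointwise

namespace Cfsg.Agent.Cores

variable {G : Type*} [Group G]

theorem sup_eq_top_of_coreFree {U : Subgroup G} (hU : IsCoatom U) (hcore : U.normalCore = ⊥)
    (N : Subgroup G) [hN : N.Normal] (hNb : N ≠ ⊥) : U ⊔ N = ⊤ :=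
  hU.2 _ (lt_of_le_of_ne le_sup_left fun he => hNb (le_bot_iff.mp
    (hcore ▸ Subgroup.normal_le_normalCore.mpr (he ▸ le_sup_right))))

theorem centralizer_inf_eq_bot_of_coreFree {U : Subgroup G} (hU : IsCoatom U)
    (hcore : U.normalCore = ⊥) (N : Subgroup G) [N.Normal] (hNb : N ≠ ⊥) :
    Subgroup.centralizer (N : Set G) ⊓ U = ⊥ := by
  have hn : (Subgroup.centralizer (N : Set G) ⊓ U).Normal := by
    rw [← Subgroup.normalizer_eq_top_iff, ← top_le_iff, ← sup_eq_top_of_coreFree hU hcore N hNb]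
    refine sup_le ?_ ?_
    · exact (le_inf (le_top.trans (Subgroup.normalizer_eq_top_iff.mpr inferInstance).ge)
        Subgroup.le_normalizer).trans Subgroup.inf_normalizer_le_normalizer_inf
    · refine le_trans ?_ (Subgroup.centralizer_le_normalizer _)
      rw [Subgroup.le_centralizer_iff]
      exact inf_le_left
  exact le_bot_iff.mp (hcore ▸ Subgroup.normal_le_normalCore.mpr inf_le_right)

/-- A nontrivial normal subgroup of `C(N)` is all of `C(N)`. -/
theorem eq_centralizer_of_le_of_coreFree {U : Subgroup G} (hU : IsCoatom U)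
    (hcore : U.normalCore = ⊥) (N : Subgroup G) [N.Normal] (hNb : N ≠ ⊥) (K : Subgroup G)
    [K.Normal] (hKb : K ≠ ⊥) (hK : K ≤ Subgroup.centralizer (N : Set G)) :
    K = Subgroup.centralizer (N : Set G) := by
  refine le_antisymm hK fun c hc => ?_
  have h : c ∈ (K : Set G) * (U : Set G) := by
    rw [← Subgroup.normal_mul, sup_comm, sup_eq_top_of_coreFree hU hcore K hKb]; trivial
  obtain ⟨k, hk, u, hu, rfl⟩ := h
  have hu1 : u ∈ Subgroup.centralizer (N : Set G) := by
    have := (Subgroup.centralizer (N : Set G)).mul_mem (inv_mem (hK hk)) hc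
    simpa using this
  have hu2 : u = 1 := Subgroup.mem_bot.mp
    (centralizer_inf_eq_bot_of_coreFree hU hcore N hNb ▸ ⟨hu1, hu⟩)
  simpa [hu2] using hk

theorem le_centralizer_of_inf_eq_bot (A B : Subgroup G) [hA : A.Normal] [hB : B.Normal]
    (h : A ⊓ B = ⊥) : A ≤ Subgroup.centralizer (B : Set G) := fun a ha b hb =>
  (Subgroup.commute_of_normal_of_disjoint _ _ hA hB (disjoint_iff.mpr h) a b ha hb).eq.symm

theorem eq_bot_of_inf_eq_bot_of_sup {U A : Subgroup G} [A.Normal] (h1 : A ⊓ U = ⊥)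
    (h2 : U ⊔ A = ⊤) : Subgroup.IsComplement' A U :=
  Subgroup.isComplement'_of_disjoint_and_mul_eq_univ (disjoint_iff.mpr h1)
    (by rw [← Subgroup.normal_mul, sup_comm, h2, Subgroup.coe_top])

/-- Two different minimal normal subgroups below a core-free maximal subgroup situation. -/
theorem minimalNormal_pair_of_coreFree {U : Subgroup G} (hU : IsCoatom U)
    (hcore : U.normalCore = ⊥) (A B : Subgroup G) [A.Normal] [B.Normal] (hA : A ≠ ⊥) (hB : B ≠ ⊥)
    (hAmin : ∀ K : Subgroup G, K.Normal → K ≤ A → K = ⊥ ∨ K = A)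
    (hBmin : ∀ K : Subgroup G, K.Normal → K ≤ B → K = ⊥ ∨ K = B) (hAB : A ≠ B) :
    A ⊓ B = ⊥ ∧ Subgroup.centralizer (B : Set G) = A ∧ Subgroup.centralizer (A : Set G) = B := by
  have h : A ⊓ B = ⊥ := by
    rcases hAmin (A ⊓ B) inferInstance inf_le_left with h | h
    · exact h
    · rcases hBmin (A ⊓ B) inferInstance inf_le_right with h' | h'
      · exact h'
      · exact absurd (h.symm.trans h') hAB
  exact ⟨h, (eq_centralizer_of_le_of_coreFree hU hcore B hB A hA
      (le_centralizer_of_inf_eq_bot A B h)).symm,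
    (eq_centralizer_of_le_of_coreFree hU hcore A hA B hB
      (le_centralizer_of_inf_eq_bot B A (inf_comm A B ▸ h))).symm⟩

end Cfsg.Agent.Cores
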